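import Cfsg.Agent.Lib.J4Dce59.Rules

/-!
# The data of a coverage certificate and its checker
-/

set_option autoImplicit false

namespace Cfsg.Agent.Lib.J4Dce59

/-- A step in the orbit of a stabiliser on trios. -/
inductive TStep where
  | root (n : ℕ)
  | up (rk par : ℕ) (s : List ℕ) (v : ℕ) (k : List ℕ)

/-- The rank of a trio. -/
def TStep.rk : TStep → ℕ
  | .root _ => 0
  | .up rk _ _ _ _ => rk

/-- A step in the orbit on translations over one trio. -/
inductive VStep where
  | root (f : ℕ)
  | up (rk par g : ℕ)

/-- The rank of a translation. -/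
def VStep.rk : VStep → ℕ
  | .root _ => 0
  | .up rk _ _ => rk

/-- An element fixing a trio: `r` is the product of the stabilisers `s` and `cr` is `tr c` times `r`. -/
structure VGen where
  s : List ℕ
  r : ℕ
  c : ℕ
  cr : ℕ
  k : List ℕ

/-- The orbits over one trio. -/
structure Root where
  T : ℕ
  gens : List VGen
  vt : Tr VStep

/-- The certificate of one orbit. -/
structure Orb where
  trio : Tr TStep
  roots : List Root
  sel : Tr (ℕ × ℕ × ℕ)
  selN : ℕ
  selG : ℕ
  levels : List (ℕ × List ℕ)
  size : ℕ

/-- The certificate for the coset space. -/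
structure Cov where
  rb : ℕ
  move : Tr (ℕ × ℕ × List ℕ)
  orbs : List Orb

def Orb.empty : Orb := ⟨.leaf (.root 0), [], .leaf (0, 0, 0), 0, 0, [], 0⟩

def Root.empty : Root := ⟨0, [], .leaf (.root 0)⟩

def Cov.orb (C : Cov) (j : ℕ) : Orb := C.orbs.getD j Orb.empty

def Orb.rootAt (O : Orb) (n : ℕ) : Root := O.roots.getD n Root.empty

variable (D : Deriv) (C : Cov)

/-- The representative of trio `T`. -/
def rT (T : ℕ) : ℕ := D.c (C.rb + T)

/-- Left multiplication by `x` (even index) or `y` (odd index) permutes the representatives. -/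
def okMove (n : ℕ) : Bool :=
  Nat.blt (C.move.get n).1 3795 && Nat.blt (C.move.get n).2.1 2048 &&
    Nat.beq (mm (genCode (n % 2)) (rT D C (n / 2)))
      (mm (mm (tr (C.move.get n).2.1) (rT D C (C.move.get n).1)) (ev D.k (C.move.get n).2.2))

/-- The check of trio `T` in orbit `j`. -/
def okTrio (j T : ℕ) : Bool :=
  match (C.orb j).trio.get T with
  | .root n => Nat.blt n (C.orb j).roots.length && Nat.beq ((C.orb j).rootAt n).T T
  | .up rk par s v k =>
    Nat.blt par 3795 && Nat.blt ((C.orb j).trio.get par).rk rk && Nat.blt v 2048 &&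
      match sEv D D.n j s with
      | some r => Nat.beq (mm r (rT D C par)) (mm (mm (tr v) (rT D C T)) (ev D.k k))
      | none => false

/-- The check of an element fixing a trio. -/
def okVGen (j T : ℕ) (g : VGen) : Bool :=
  match sEv D D.n j g.s with
  | some r => Nat.beq r g.r && Nat.blt g.c 2048 && Nat.beq (mm (tr g.c) g.r) g.cr &&
      Nat.beq (mm g.cr (rT D C T)) (mm (rT D C T) (ev D.k g.k))
  | none => false

/-- The check of the elements over root `n` of orbit `j`. -/
def okRoot (j n : ℕ) : Bool :=
  ((C.orb j).rootAt n).gens.all fun g => okVGen D C j ((C.orb j).rootAt n).T g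

/-- The check of translation `v` over root `n` of orbit `j`. -/
def okV (j n v : ℕ) : Bool :=
  match ((C.orb j).rootAt n).vt.get v with
  | .root f =>
    Nat.blt f D.n && match D.fact.get f with
    | .edge i h j' _ => Nat.beq i j && Nat.blt j' C.orbs.length &&
        Nat.beq h (mm (tr v) (rT D C ((C.orb j).rootAt n).T))
    | _ => false
  | .up rk par g =>
    Nat.blt par 2048 && Nat.blt (((C.orb j).rootAt n).vt.get par).rk rk &&
      match ((C.orb j).rootAt n).gens[g]? with
      | some e => Nat.beq (mm e.r (tr par)) (mm (tr v) e.cr)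
      | none => false

/-- The check of element `n` of the stabiliser in orbit `j`. -/
def okSel (j n : ℕ) : Bool :=
  cond (Nat.ble (C.orb j).selG n)
    (Nat.blt ((C.orb j).sel.get n).2.1 n && Nat.blt ((C.orb j).sel.get n).2.2 n &&
      Nat.beq ((C.orb j).sel.get n).1
        (mm ((C.orb j).sel.get ((C.orb j).sel.get n).2.1).1 ((C.orb j).sel.get ((C.orb j).sel.get n).2.2).1))
    (Nat.blt ((C.orb j).sel.get n).2.1 D.n &&
      match D.fact.get ((C.orb j).sel.get n).2.1 with
      | .stab i s => Nat.beq i j && Nat.beq s ((C.orb j).sel.get n).1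
      | _ => false)

/-- An element of the stabiliser. -/
def sC (j n : ℕ) : ℕ := cond (Nat.ble (C.orb j).selN n) one ((C.orb j).sel.get n).1

/-- The numbers in the list are pairwise distinct and not bits of the mask. -/
def distinct : ℕ → List ℕ → Bool
  | _, [] => true
  | m, a :: l => Nat.beq (m >>> a % 2) 0 && distinct (m ||| 1 <<< a) l

/-- Elements fixing the earlier points move each point to as many places as listed. -/
def chainOK (c : ℕ → ℕ) : List (ℕ × List ℕ) → Bool
  | [] => true
  | (b, ns) :: rest =>
    Nat.blt b 4096 && distinct 0 (ns.map fun n => ap b (c n)) &&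
      (rest.all fun p => p.2.all fun n => Nat.beq (ap b (c n)) b) && chainOK c rest

/-- The product of the lengths of the levels. -/
def chainProd : List (ℕ × List ℕ) → ℕ
  | [] => 1
  | (_, ns) :: rest => ns.length * chainProd rest

end Cfsg.Agent.Lib.J4Dce59
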