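import Cfsg.Agent.Lib.J4Dce59.Group
import Cfsg.Agent.Lib.J4Dce59.CoverRules

/-!
# A lower bound for the order of a group of affine maps
-/

set_option autoImplicit false
set_option maxRecDepth 20000

namespace Cfsg.Agent.Lib.J4Dce59

theorem beq_mask {m a : ℕ} : Nat.beq (m >>> a % 2) 0 = true ↔ Nat.testBit m a = false := by
  rw [beq_iff', Nat.shiftRight_eq_div_pow, Nat.testBit_eq_decide_div_mod_eq, decide_eq_false_iff_not]
  omega

theorem distinct_spec : ∀ (l : List ℕ) (m : ℕ), distinct m l = true →
    l.Nodup ∧ ∀ a ∈ l, Nat.testBit m a = false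
  | [], _, _ => ⟨List.nodup_nil, fun _ h => absurd h List.not_mem_nil⟩
  | a :: l, m, h => by
    rw [distinct, and_iff] at h
    obtain ⟨h1, h2⟩ := h
    obtain ⟨hd, hm⟩ := distinct_spec l _ h2
    have hb : ∀ x ∈ l, Nat.testBit m x = false ∧ Nat.testBit (1 <<< a) x = false := fun x hx => by
      have := hm x hx
      rwa [Nat.testBit_or, Bool.or_eq_false_iff] at this
    refine ⟨List.nodup_cons.2 ⟨fun ha => ?_, hd⟩, ?_⟩
    · have := (hb a ha).2
      rw [Nat.one_shiftLeft, Nat.testBit_two_pow_self] at this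
      simp at this
    · intro x hx
      rcases List.mem_cons.1 hx with rfl | hx
      · exact beq_mask.1 h1
      · exact (hb x hx).1

/-- The chain bound. -/
theorem chain_le (c : ℕ → ℕ) : ∀ (L : List (ℕ × List ℕ)) (S : Subgroup (Equiv.Perm (Fin 4096))),
    chainOK c L = true → (∀ p ∈ L, ∀ n ∈ p.2, ∃ σ ∈ S, Cd σ (c n)) → chainProd L ≤ Nat.card S
  | [], S, _, _ => Nat.card_pos
  | (b, ns) :: rest, S, h, hm => by
    rw [chainOK, and_iff, and_iff, and_iff, Nat.blt_eq] at h
    obtain ⟨⟨⟨hb, hd⟩, hfix⟩, hrest⟩ := h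
    let pt : Fin 4096 := ⟨b, hb⟩
    let T : Subgroup (Equiv.Perm (Fin 4096)) := S ⊓ MulAction.stabilizer (Equiv.Perm (Fin 4096)) pt
    have hT : chainProd rest ≤ Nat.card T := chain_le c rest T hrest fun p hp n hn => by
      obtain ⟨σ, hσ, hc⟩ := hm p (List.mem_cons_of_mem _ hp) n hn
      have := beq_iff'.1 (List.all_eq_true.1 (List.all_eq_true.1 hfix p hp) n hn)
      refine ⟨σ, ⟨hσ, ?_⟩, hc⟩
      have e : σ.symm pt = pt := Fin.ext ((hc pt).trans this)
      show σ • pt = pt
      rw [Equiv.Perm.smul_def]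
      conv_lhs => rw [← e]
      exact σ.apply_symm_apply pt
    have hor : ns.length ≤ Nat.card (MulAction.orbit S pt) := by
      have hv : ∀ n ∈ ns, ∃ q : MulAction.orbit S pt, ((q : Fin 4096) : ℕ) = ap b (c n) := fun n hn => by
        obtain ⟨σ, hσ, hc⟩ := hm (b, ns) List.mem_cons_self n hn
        exact ⟨⟨σ⁻¹ pt, ⟨⟨σ⁻¹, inv_mem hσ⟩, rfl⟩⟩, hc pt⟩
      choose q hq using hv
      have hinj : Function.Injective (fun i : Fin ns.length => q ns[i] (List.getElem_mem i.2)) := by
        intro i j e
        have e' := congrArg (fun q : MulAction.orbit S pt => ((q : Fin 4096) : ℕ)) e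
        simp only [hq] at e'
        have hn := (distinct_spec _ _ hd).1
        refine Fin.ext ?_
        have := hn.getElem_inj_iff (i := i.1) (j := j.1) (hi := by simp) (hj := by simp)
        simp only [List.getElem_map] at this
        exact this.1 e'
      simpa using Nat.card_le_card_of_injective _ hinj
    have hsplit : Nat.card (MulAction.orbit S pt) * Nat.card T = Nat.card S := by
      have e2 : Nat.card (MulAction.stabilizer S pt) = Nat.card T := by
        refine Nat.card_congr
          { toFun := fun s => ⟨s.1.1, s.1.2, s.2⟩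
            invFun := fun s => ⟨⟨s.1, s.2.1⟩, s.2.2⟩
            left_inv := fun _ => rfl
            right_inv := fun _ => rfl }
      rw [← e2, ← Nat.card_prod]
      exact Nat.card_congr (MulAction.orbitProdStabilizerEquivGroup S pt)
    rw [chainProd, ← hsplit]
    exact Nat.mul_le_mul hor hT

end Cfsg.Agent.Lib.J4Dce59
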