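import Cfsg.Agent.Lib.J4Dce59.Sound
import Cfsg.Agent.Lib.J4Dce59.Chain

/-!
# The order of the model, and its faithful action on the affine space
-/

set_option autoImplicit false
set_option maxRecDepth 20000

namespace Cfsg.Agent.Lib.J4Dce59

/-- The normal subgroup of translations. -/
def Epart : Subgroup P := Subgroup.closure (Set.range pe)

theorem pe_mem (i : Fin 11) : pe i ∈ Epart := Subgroup.subset_closure ⟨i, rfl⟩

theorem bitsProd_mem (v : ℕ) : bitsProd pe v ∈ Epart :=
  Subgroup.list_prod_mem _ fun g hg => by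
    obtain ⟨i, -, rfl⟩ := List.mem_map.1 hg
    exact pe_mem i

theorem closure_gens : Subgroup.closure ({px, py} ∪ Set.range pe) = (⊤ : Subgroup P) := by
  rw [eq_top_iff, ← PresentedGroup.closure_range_of rels, Subgroup.closure_le]
  rintro g ⟨a, rfl⟩
  refine Subgroup.subset_closure ?_
  cases a
  · exact Or.inl (Or.inl rfl)
  · exact Or.inl (Or.inr rfl)
  · exact Or.inr ⟨_, rfl⟩

instance Epart_normal : Epart.Normal := by
  have hconj : ∀ g : P, (∀ i, g⁻¹ * pe i * g ∈ Epart) → ∀ e ∈ Epart, g⁻¹ * e * g ∈ Epart := by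
    intro g hg e he
    induction he using Subgroup.closure_induction with
    | mem z hz => obtain ⟨i, rfl⟩ := hz; exact hg i
    | one => simpa using one_mem Epart
    | mul a b _ _ ha hb =>
      have := mul_mem ha hb
      simpa [mul_assoc] using this
    | inv a _ ha =>
      have := inv_mem ha
      simpa [mul_assoc] using this
  have hx := hconj px fun i => by rw [hRel_P.conj_x i]; exact bitsProd_mem _
  have hy := hconj py fun i => by rw [hRel_P.conj_y i]; exact bitsProd_mem _
  have hx2 : px * px = 1 := by rw [← pow_two]; exact hRel_P.m24.1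
  have hy3 : py * py * py = 1 := by
    have h := hRel_P.m24.2.1
    rwa [pow_succ, pow_two] at h
  have top : ∀ g : P, g ∈ Subgroup.closure ({px, py} ∪ Set.range pe) →
      (∀ e ∈ Epart, g⁻¹ * e * g ∈ Epart) ∧ ∀ e ∈ Epart, g * e * g⁻¹ ∈ Epart := by
    intro g hg
    induction hg using Subgroup.closure_induction with
    | mem z hz =>
      rcases hz with (rfl | rfl) | ⟨i, rfl⟩
      · refine ⟨hx, fun e he => ?_⟩
        have h := hx e he
        rw [inv_eq_of_mul_eq_one_right hx2] at h ⊢
        exact h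
      · refine ⟨hy, fun e he => ?_⟩
        have h := hy _ (hy e he)
        have hi : py⁻¹ = py * py := inv_eq_of_mul_eq_one_right (by rw [← mul_assoc]; exact hy3)
        have hi2 : py * e * py⁻¹ = py⁻¹ * (py⁻¹ * e * py) * py := by
          rw [hi]
          simp only [← mul_assoc]
          rw [show py * py * py * py = py by rw [hy3, one_mul]]
        rw [hi2]; exact h
      · exact ⟨fun e he => mul_mem (mul_mem (inv_mem (pe_mem i)) he) (pe_mem i),
          fun e he => mul_mem (mul_mem (pe_mem i) he) (inv_mem (pe_mem i))⟩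
    | one => simp
    | mul a b _ _ ha hb =>
      refine ⟨fun e he => ?_, fun e he => ?_⟩
      · have := hb.1 _ (ha.1 e he); simpa [mul_assoc] using this
      · have := ha.2 _ (hb.2 e he); simpa [mul_assoc] using this
    | inv a _ ha =>
      refine ⟨fun e he => ?_, fun e he => ?_⟩
      · simpa using ha.2 e he
      · simpa using ha.1 e he
  exact ⟨fun e he g => (top g (closure_gens ▸ Subgroup.mem_top g)).2 e he⟩

/-- The check on the products of translations. -/
def okTr (n : ℕ) : Bool :=
  (List.range (2 ^ n)).all fun v => Nat.beq (mm (tr (2 ^ n)) (tr v)) (tr (v + 2 ^ n))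

theorem okTr_all : (List.range 11).all okTr = true := by decide +kernel

theorem tr_zero : tr 0 = one := by simp [tr]

theorem Epart_spec : ∃ S : Finset P, S.card ≤ 2048 ∧ (∀ p, p ∈ S ↔ p ∈ Epart) ∧
    (∀ p ∈ S, ∃ v < 2048, Code p (tr v)) ∧ ∀ v < 2048, ∃ p ∈ S, Code p (tr v) := by
  classical
  have step : ∀ n, n ≤ 11 → ∃ S : Finset P, S.card ≤ 2 ^ n ∧ 1 ∈ S ∧ (∀ p ∈ S, p ∈ Epart) ∧
      (∀ i : Fin 11, (i : ℕ) < n → ∀ p ∈ S, pe i * p ∈ S) ∧
      (∀ p ∈ S, ∃ v < 2 ^ n, Code p (tr v)) ∧ ∀ v < 2 ^ n, ∃ p ∈ S, Code p (tr v) := by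
    intro n
    induction n with
    | zero =>
      intro _
      refine ⟨{1}, by simp, by simp, by simp [one_mem], fun i hi => absurd hi (Nat.not_lt_zero _),
        fun p hp => ⟨0, by norm_num, ?_⟩, fun v hv => ⟨1, by simp, ?_⟩⟩
      · rw [Finset.mem_singleton.1 hp, tr_zero]; exact Code.one'
      · obtain rfl : v = 0 := by simpa using hv
        rw [tr_zero]; exact Code.one'
    | succ n ih =>
      intro hn
      obtain ⟨S, hc, h1, hE, hcl, hf, hb⟩ := ih (by omega)
      let k : Fin 11 := ⟨n, by omega⟩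
      have hck := List.all_eq_true.1 okTr_all n (List.mem_range.2 (by omega))
      have hk : ∀ p ∈ S, ∀ v < 2 ^ n, Code p (tr v) → Code (pe k * p) (tr (v + 2 ^ n)) := by
        intro p _ v hv hp
        have := beq_iff'.1 (List.all_eq_true.1 hck v (List.mem_range.2 hv))
        rw [← this]
        exact (code_e k).mul hp
      refine ⟨S ∪ S.image (pe k * ·), ?_, Finset.mem_union_left _ h1, ?_, ?_, ?_, ?_⟩
      · refine le_trans (Finset.card_union_le _ _) ?_
        have := Finset.card_image_le (s := S) (f := (pe k * ·))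
        rw [pow_succ]; omega
      · intro p hp
        rcases Finset.mem_union.1 hp with hp | hp
        · exact hE p hp
        · obtain ⟨q, hq, rfl⟩ := Finset.mem_image.1 hp
          exact mul_mem (pe_mem k) (hE q hq)
      · intro i hi p hp
        rcases Finset.mem_union.1 hp with hp | hp
        · rcases Nat.lt_or_ge (i : ℕ) n with h' | h'
          · exact Finset.mem_union_left _ (hcl i h' p hp)
          · obtain rfl : i = k := Fin.ext (show (i : ℕ) = n by omega)
            exact Finset.mem_union_right _ (Finset.mem_image_of_mem _ hp)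
        · obtain ⟨q, hq, rfl⟩ := Finset.mem_image.1 hp
          rcases Nat.lt_or_ge (i : ℕ) n with h' | h'
          · rw [← mul_assoc, hRel_P.comm i k, mul_assoc]
            exact Finset.mem_union_right _ (Finset.mem_image_of_mem _ (hcl i h' q hq))
          · obtain rfl : i = k := Fin.ext (show (i : ℕ) = n by omega)
            rw [← mul_assoc, hRel_P.sq, one_mul]
            exact Finset.mem_union_left _ hq
      · intro p hp
        rcases Finset.mem_union.1 hp with hp | hp
        · obtain ⟨v, hv, hv'⟩ := hf p hp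
          exact ⟨v, by rw [pow_succ]; omega, hv'⟩
        · obtain ⟨q, hq, rfl⟩ := Finset.mem_image.1 hp
          obtain ⟨v, hv, hv'⟩ := hf q hq
          exact ⟨v + 2 ^ n, by rw [pow_succ]; omega, hk q hq v hv hv'⟩
      · intro v hv
        rcases Nat.lt_or_ge v (2 ^ n) with h' | h'
        · obtain ⟨p, hp, hp'⟩ := hb v h'
          exact ⟨p, Finset.mem_union_left _ hp, hp'⟩
        · have hlt : v - 2 ^ n < 2 ^ n := by rw [pow_succ] at hv; omega
          obtain ⟨p, hp, hp'⟩ := hb (v - 2 ^ n) hlt
          refine ⟨pe k * p, Finset.mem_union_right _ (Finset.mem_image_of_mem _ hp), ?_⟩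
          have := hk p hp _ hlt hp'
          rwa [Nat.sub_add_cancel h'] at this
  obtain ⟨S, hc, h1, hE, hcl, hf, hb⟩ := step 11 le_rfl
  refine ⟨S, hc, fun p => ⟨hE p, fun hp => ?_⟩, hf, hb⟩
  have : ∀ q ∈ S, p * q ∈ S ∧ p⁻¹ * q ∈ S := by
    induction hp using Subgroup.closure_induction with
    | mem z hz =>
      obtain ⟨i, rfl⟩ := hz
      intro q hq
      rw [inv_eq_of_mul_eq_one_right (hRel_P.sq i)]
      exact ⟨hcl i i.2 q hq, hcl i i.2 q hq⟩
    | one => intro q hq; simp [hq]
    | mul a b _ _ ha hb' =>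
      intro q hq
      rw [mul_assoc, mul_inv_rev, mul_assoc]
      exact ⟨(ha _ (hb' q hq).1).1, (hb' _ (ha q hq).2).2⟩
    | inv a _ ha =>
      intro q hq
      rw [inv_inv]
      exact ⟨(ha q hq).2, (ha q hq).1⟩
  simpa using (this 1 h1).1

theorem P_card (hM : M24Bound) : Finite P ∧ Nat.card P ≤ 501397585920 := by
  obtain ⟨S, hS, hmem, -, -⟩ := Epart_spec
  have hEfin : Finite Epart := Finite.of_surjective (α := S) (fun s => ⟨s.1, (hmem _).1 s.2⟩)
    fun e => ⟨⟨e.1, (hmem _).2 e.2⟩, rfl⟩
  have hEcard : Nat.card Epart ≤ 2048 := by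
    refine le_trans (Nat.card_le_card_of_surjective (α := S) (fun s => (⟨s.1, (hmem _).1 s.2⟩ : Epart))
      fun e => ⟨⟨e.1, (hmem _).2 e.2⟩, rfl⟩) ?_
    simpa using hS
  let π : P →* P ⧸ Epart := QuotientGroup.mk' Epart
  have hrel : M24Rel (π px) (π py) := by
    obtain ⟨h1, h2, h3, h4, h5, h6, h7⟩ := hRel_P.m24
    refine ⟨?_, ?_, ?_, ?_, ?_, ?_, ?_⟩ <;>
      simp only [← map_mul, ← map_inv, ← map_pow, h1, h2, h3, h4, h5, h6, h7, map_one]
  have htop : Subgroup.closure ({π px, π py} : Set (P ⧸ Epart)) = ⊤ := by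
    rw [eq_top_iff, ← MonoidHom.range_eq_top.2 (QuotientGroup.mk'_surjective Epart),
      MonoidHom.range_eq_map, ← closure_gens, MonoidHom.map_closure, Subgroup.closure_le]
    rintro z ⟨g, (rfl | rfl) | ⟨i, rfl⟩, rfl⟩
    · exact Subgroup.subset_closure (Or.inl rfl)
    · exact Subgroup.subset_closure (Or.inr rfl)
    · rw [show QuotientGroup.mk' Epart (pe i) = 1 from (QuotientGroup.eq_one_iff _).2 (pe_mem i)]
      exact one_mem _
  obtain ⟨hfin, hcard⟩ := hM (π px) (π py) hrel
  rw [htop] at hfin hcard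
  have : Finite (P ⧸ Epart) := Finite.of_equiv _ Subgroup.topEquiv.toEquiv
  rw [Nat.card_congr Subgroup.topEquiv.toEquiv] at hcard
  refine ⟨Finite.of_equiv _ (Subgroup.groupEquivQuotientProdSubgroup (s := Epart)).symm, ?_⟩
  rw [Subgroup.card_eq_card_quotient_mul_card_subgroup Epart]
  exact (Nat.mul_le_mul hcard hEcard).trans (by norm_num)

variable {D : Deriv}

/-- A certified chain in the range makes the action faithful. -/
theorem rho_inj (hM : M24Bound) (hE : ElsOK D) (L : List (ℕ × List ℕ)) (hL : chainOK D.c L = true)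
    (hP : chainProd L = 501397585920) : Function.Injective rho ∧ Nat.card P = 501397585920 := by
  obtain ⟨hfin, hle⟩ := P_card hM
  have hlow : 501397585920 ≤ Nat.card rho.range := hP ▸ chain_le D.c L rho.range hL fun p _ n _ => by
    obtain ⟨q, hq⟩ := isEl_c hE n
    exact ⟨rho q, ⟨q, rfl⟩, hq⟩
  have hs : Nat.card rho.range ≤ Nat.card P :=
    Nat.card_le_card_of_surjective rho.rangeRestrict rho.rangeRestrict_surjective
  refine ⟨?_, le_antisymm hle (hlow.trans hs)⟩
  have hb : Function.Bijective rho.rangeRestrict :=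
    ⟨?_, rho.rangeRestrict_surjective⟩
  · exact fun a b e => hb.1 (Subtype.ext e)
  · exact ((Nat.bijective_iff_surjective_and_card _).2
      ⟨rho.rangeRestrict_surjective, le_antisymm (hle.trans hlow) hs⟩).1

end Cfsg.Agent.Lib.J4Dce59
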