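import Cfsg.Agent.Lib.J4Dce59.Sound
import Cfsg.Agent.Lib.J4Dce59.Inj
import Cfsg.Agent.Lib.J4Dce59.Data.Irr

/-!
# The words of the defining relators, read in the model
-/

set_option autoImplicit false
set_option maxRecDepth 20000

namespace Cfsg.Agent.Lib.J4Dce59

universe u

section

variable {G : Type u} [Group G]

/-- The conjugator of the first long relator. -/
def wordS (x y : G) : G := y * x * y⁻¹ * x * y * x * y⁻¹ * x

/-- The conjugator of the second long relator. -/
def wordV (x y : G) : G := (x * y) ^ 3 * y * (x * y) ^ 6 * y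

/-- The head of the second long relator. -/
def wordPp (x y : G) : G := (y * x * y * x * y * x * y) ^ 3

/-- The conjugator of `u`. -/
def wordW (x y : G) : G := (y * x) ^ 4 * y⁻¹ * x

/-- The second generator of the centraliser of `t`. -/
def wordK (x y : G) : G := y * x * y * (x * y⁻¹) ^ 2 * (x * y) ^ 3

theorem map_words {H : Type*} [Group H] (f : G →* H) (x y : G) :
    f (wordS x y) = wordS (f x) (f y) ∧ f (wordV x y) = wordV (f x) (f y) ∧
      f (wordPp x y) = wordPp (f x) (f y) ∧ f (wordW x y) = wordW (f x) (f y) ∧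
      f (wordK x y) = wordK (f x) (f y) := by
  simp [wordS, wordV, wordPp, wordW, wordK, map_mul, map_inv, map_pow]

end

theorem px_inv : px⁻¹ = px :=
  inv_eq_of_mul_eq_one_right (by rw [← pow_two]; exact hRel_P.m24.1)

theorem py_inv : py⁻¹ = py * py :=
  inv_eq_of_mul_eq_one_right (by
    have h := hRel_P.m24.2.1; rw [pow_succ, pow_two, mul_assoc] at h; exact h)

theorem word_eq (hinj : Function.Injective rho) {l m : List ℕ} (hl : ∀ a ∈ l, a < 13)
    (hm : ∀ a ∈ m, a < 13) (h : ev genCode l = ev genCode m) : wordP l = wordP m :=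
  Code.eq_of hinj (code_wordP l hl) (h ▸ code_wordP m hm)

/-- The word of `wordS`. -/
def lS : List ℕ := [1, 0, 1, 1, 0, 1, 0, 1, 1, 0]

/-- The word of the inverse of `wordS`. -/
def lSi : List ℕ := [0, 1, 0, 1, 1, 0, 1, 0, 1, 1]

/-- The word of `wordV`. -/
def lV : List ℕ := [0, 1, 0, 1, 0, 1, 1, 0, 1, 0, 1, 0, 1, 0, 1, 0, 1, 0, 1, 1]

/-- The word of the inverse of `wordV`. -/
def lVi : List ℕ := [1, 1, 1, 1, 0, 1, 1, 0, 1, 1, 0, 1, 1, 0, 1, 1, 0, 1, 1, 0, 1, 1, 1, 1, 0, 1, 1, 0,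
  1, 1, 0]

/-- The word of `wordPp`. -/
def lPp : List ℕ := [1, 0, 1, 0, 1, 0, 1, 1, 0, 1, 0, 1, 0, 1, 1, 0, 1, 0, 1, 0, 1]

/-- The word of `wordW`. -/
def lW : List ℕ := [1, 0, 1, 0, 1, 0, 1, 0, 1, 1, 0]

/-- The word of the inverse of `wordW`. -/
def lWi : List ℕ := [0, 1, 0, 1, 1, 0, 1, 1, 0, 1, 1, 0, 1, 1]

theorem wordP_append (l m : List ℕ) : wordP (l ++ m) = wordP l * wordP m := by
  rw [wordP, List.map_append, List.prod_append]; rfl

theorem lists_eq : wordP lS = wordS px py ∧ wordP lSi = (wordS px py)⁻¹ ∧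
    wordP lV = wordV px py ∧ wordP lVi = (wordV px py)⁻¹ ∧ wordP lPp = wordPp px py ∧
    wordP lW = wordW px py ∧ wordP lWi = (wordW px py)⁻¹ ∧ wordP kWord = wordK px py := by
  have h3 : py * (py * py) = 1 := by
    have h := hRel_P.m24.2.1; rw [pow_succ, pow_two, mul_assoc] at h; exact h
  have h3' : ∀ z : P, py * (py * (py * z)) = z := fun z => by
    rw [← mul_assoc py py z, ← mul_assoc py, h3, one_mul]
  refine ⟨?_, ?_, ?_, ?_, ?_, ?_, ?_, ?_⟩ <;>
    simp [wordP, genP, lS, lSi, lV, lVi, lPp, lW, lWi, kWord, wordS, wordV, wordPp, wordW, wordK,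
      pow_succ, pow_zero, px_inv, py_inv, mul_inv_rev, mul_assoc, h3, h3']

/-- The translation `u`. -/
noncomputable def pu : P := bitsProd pe 934

/-- The word of `u`. -/
def lU : List ℕ := [3, 4, 7, 9, 10, 11]

theorem bitsProd_934 {M : Type*} [Monoid M] (e : Fin 11 → M) :
    bitsProd e 934 = ([1, 2, 5, 7, 8, 9].map fun i : Fin 11 => e i).prod := by
  have h : ((List.finRange 11).filter fun i : Fin 11 => (934 : ℕ).testBit i) = [1, 2, 5, 7, 8, 9] := by
    decide
  rw [bitsProd, h]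

theorem lU_eq : wordP lU = pu := by
  rw [pu, bitsProd_934]
  rfl

theorem pu_code : Code pu (tr 934) := by
  rw [← lU_eq, show tr 934 = ev genCode lU by decide +kernel]
  exact code_wordP _ (by decide)

theorem rel_words (hinj : Function.Injective rho) :
    wordP relWord.wA = wordS px py * py * (wordS px py)⁻¹ ∧
    wordP relWord.wB = (wordV px py)⁻¹ ∧
    wordP relWord.wC = wordV px py * wordPp px py ∧
    wordP relWord.wD = wordW px py * py * (wordW px py)⁻¹ ∧
    wordP [3, 4, 6, 10] = wordW px py * pu * (wordW px py)⁻¹ ∧ py * pu = pu * py := by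
  obtain ⟨eS, eSi, eV, eVi, eP, eW, eWi, -⟩ := lists_eq
  have e1 : wordP [1] = py := by simp [wordP, genP]
  refine ⟨?_, ?_, ?_, ?_, ?_, ?_⟩
  · rw [← eSi, ← eS, ← e1, ← wordP_append, ← wordP_append]
    exact word_eq hinj (by decide) (by decide) (by decide +kernel)
  · rw [← eVi]; exact word_eq hinj (by decide) (by decide) (by decide +kernel)
  · rw [← eV, ← eP, ← wordP_append]
    exact word_eq hinj (by decide) (by decide) (by decide +kernel)
  · rw [← eWi, ← eW, ← e1, ← wordP_append, ← wordP_append]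
    exact word_eq hinj (by decide) (by decide) (by decide +kernel)
  · rw [← eWi, ← eW, ← lU_eq, ← wordP_append, ← wordP_append]
    exact word_eq hinj (by decide) (by decide) (by decide +kernel)
  · rw [← e1, ← lU_eq, ← wordP_append, ← wordP_append]
    exact word_eq hinj (by decide) (by decide) (by decide +kernel)

/-- The codes of the three generators `x`, `y`, `u`. -/
def genC3 : ℕ → ℕ
  | 0 => MX
  | 1 => MY
  | _ => tr 934

/-- The three generators `x`, `y`, `u`. -/
noncomputable def gen3 : ℕ → P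
  | 0 => px
  | 1 => py
  | _ => pu

theorem basis_words_check : ((List.range 11).all fun i =>
    Nat.beq (ev genC3 (Data.basisWords.getD i [])) (tr (2 ^ i))) = true := by decide +kernel

/-- `x`, `y` and `u` generate the model. -/
theorem closure_xyu (hinj : Function.Injective rho) :
    Subgroup.closure ({px, py, pu} : Set P) = ⊤ := by
  rw [eq_top_iff, ← closure_gens, Subgroup.closure_le]
  rintro z ((rfl | rfl) | ⟨i, rfl⟩)
  · exact Subgroup.subset_closure (Or.inl rfl)
  · exact Subgroup.subset_closure (Or.inr (Or.inl rfl))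
  · have hc : ∀ a, Code (gen3 a) (genC3 a)
      | 0 => code_x
      | 1 => code_y
      | _ + 2 => pu_code
    have h := beq_iff'.1 (List.all_eq_true.1 basis_words_check i (List.mem_range.2 i.2))
    have hw := code_word (Data.basisWords.getD i []) fun a _ => hc a
    rw [h] at hw
    rw [Code.eq_of hinj (code_e i) hw]
    refine Subgroup.list_prod_mem _ fun g hg => ?_
    obtain ⟨a, -, rfl⟩ := List.mem_map.1 hg
    rcases a with _ | _ | a
    · exact Subgroup.subset_closure (Or.inl rfl)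
    · exact Subgroup.subset_closure (Or.inr (Or.inl rfl))
    · exact Subgroup.subset_closure (Or.inr (Or.inr rfl))

section

variable {G : Type u} [Group G]

theorem conj_cube {a s t : G} (h : (a * (s⁻¹ * t * s)) ^ 3 = 1) :
    (t * (s * a * s⁻¹)) ^ 3 = 1 := by
  have e : t * (s * a * s⁻¹) = t * s * (a * (s⁻¹ * t * s)) * (t * s)⁻¹ := by group
  rw [e, conj_pow, h, mul_one, mul_inv_cancel]

theorem conj_square {p t v : G} (h : (p * t * (v⁻¹ * t * v)) ^ 2 = 1) :
    (t * v⁻¹ * (t * (v * p))) ^ 2 = 1 ∧ (t * (v * p) * (t * v⁻¹)) ^ 2 = 1 := by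
  have e : t * v⁻¹ * (t * (v * p)) = p⁻¹ * (p * t * (v⁻¹ * t * v)) * p⁻¹⁻¹ := by group
  have h1 : (t * v⁻¹ * (t * (v * p))) ^ 2 = 1 := by rw [e, conj_pow, h, mul_one, mul_inv_cancel]
  refine ⟨h1, ?_⟩
  have e2 : t * (v * p) * (t * v⁻¹) = (t * v⁻¹)⁻¹ * (t * v⁻¹ * (t * (v * p))) * (t * v⁻¹)⁻¹⁻¹ := by group
  rw [e2, conj_pow, h1, mul_one, mul_inv_cancel]

theorem conj_u {y w t u : G} (hu : (y * (w⁻¹ * t * w)) ^ 3 = u) (hyu : Commute y u) :
    (t * (w * y * w⁻¹)) ^ 3 = w * u * w⁻¹ := by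
  have hc : Commute (w⁻¹ * t * w) u := by
    have h1 : Commute (y * (w⁻¹ * t * w)) u := by rw [← hu]; exact (Commute.refl _).pow_right 3
    have h2 := hyu.inv_left.mul_left h1
    rwa [inv_mul_cancel_left] at h2
  have e : t * (w * y * w⁻¹) = t * w * (y * (w⁻¹ * t * w)) * (t * w)⁻¹ := by group
  rw [e, conj_pow, hu]
  have e2 : t * w * u * (t * w)⁻¹ = w * (w⁻¹ * t * w * u * (w⁻¹ * t * w)⁻¹) * w⁻¹ := by group
  rw [e2, hc.eq, mul_inv_cancel_right]

end

end Cfsg.Agent.Lib.J4Dce59
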