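import Cfsg.Agent.Lib.J4Dce59.Faithful
import Cfsg.Agent.Lib.J4Dce59.Words
import Cfsg.Agent.Lib.J4M24Bound96.Main
import Cfsg.Agent.Lib.Golay.Simple

/-!
# The normal subgroups of `2^11:M24`
-/

set_option autoImplicit false
set_option maxRecDepth 20000

namespace Cfsg.Agent.Lib.J4Dce59

theorem basis_words_cancel : ((List.range 11).all fun i =>
    Nat.beq (ev genC3 ((Data.basisWords.getD i []).filter fun a => !Nat.beq a 2)) one &&
      (Data.basisWords.getD i []).all fun a => Nat.blt a 3) = true := by decide +kernel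

/-- A normal subgroup containing `u` contains all translations. -/
theorem E_le_of_pu (hinj : Function.Injective rho) (N : Subgroup P) [hN : N.Normal] (hu : pu ∈ N) :
    Epart ≤ N := by
  rw [Epart, Subgroup.closure_le]
  rintro z ⟨i, rfl⟩
  have hc : ∀ a, Code (gen3 a) (genC3 a)
    | 0 => code_x
    | 1 => code_y
    | _ + 2 => pu_code
  obtain ⟨h1, h2⟩ := and_iff.1 (List.all_eq_true.1 basis_words_cancel i (List.mem_range.2 i.2))
  have hw := code_word (Data.basisWords.getD i []) fun a _ => hc a
  rw [beq_iff'.1 (List.all_eq_true.1 basis_words_check i (List.mem_range.2 i.2))] at hw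
  have hw' := code_word ((Data.basisWords.getD i []).filter fun a => !Nat.beq a 2) fun a _ => hc a
  rw [beq_iff'.1 h1] at hw'
  have e1 := Code.eq_of hinj (code_e i) hw
  have e2 := Code.eq_of hinj Code.one' hw'
  have key : ∀ l : List ℕ, (∀ a ∈ l, a < 3) →
      QuotientGroup.mk' N (l.map gen3).prod =
        QuotientGroup.mk' N ((l.filter fun a => !Nat.beq a 2).map gen3).prod := by
    intro l
    induction l with
    | nil => intro _; rfl
    | cons a l ih =>
      intro h
      rw [List.map_cons, List.prod_cons, map_mul, ih fun x hx => h x (List.mem_cons_of_mem _ hx)]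
      have ha := h a List.mem_cons_self
      interval_cases a
      · rw [List.filter_cons_of_pos (by rfl), List.map_cons, List.prod_cons, map_mul]
      · rw [List.filter_cons_of_pos (by rfl), List.map_cons, List.prod_cons, map_mul]
      · rw [List.filter_cons_of_neg (by simp), show gen3 2 = pu from rfl,
          show QuotientGroup.mk' N pu = 1 from (QuotientGroup.eq_one_iff _).2 hu, one_mul]
  have hlt : ∀ a ∈ Data.basisWords.getD i [], a < 3 := fun a ha => Nat.blt_eq.mp (List.all_eq_true.1 h2 a ha)
  have h := key _ hlt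
  rw [← e1, ← e2, map_one] at h
  exact (QuotientGroup.eq_one_iff _).1 h

/-- The translations have order `2 ^ 11` and index `|M24|`. -/
theorem E_card (hM : M24Bound) (hcard : Nat.card P = 501397585920) :
    Nat.card Epart = 2048 ∧ Epart.index = 244823040 := by
  obtain ⟨S, hS, hmem, -, -⟩ := Epart_spec
  have hEcard : Nat.card Epart ≤ 2048 := by
    refine le_trans (Nat.card_le_card_of_surjective (α := S) (fun s => (⟨s.1, (hmem _).1 s.2⟩ : Epart))
      fun e => ⟨⟨e.1, (hmem _).2 e.2⟩, rfl⟩) ?_
    simpa using hS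
  let π : P →* P ⧸ Epart := QuotientGroup.mk' Epart
  have hrel : M24Rel (π px) (π py) := by
    obtain ⟨h1, h2, h3, h4, h5, h6, h7⟩ := hRel_P.m24
    refine ⟨?_, ?_, ?_, ?_, ?_, ?_, ?_⟩ <;>
      simp only [← map_mul, ← map_inv, ← map_pow, h1, h2, h3, h4, h5, h6, h7, map_one]
  have htop : Subgroup.closure ({π px, π py} : Set (P ⧸ Epart)) = ⊤ := by
    rw [eq_top_iff, ← MonoidHom.range_eq_top.2 (QuotientGroup.mk'_surjective Epart),
      MonoidHom.range_eq_map, ← closure_gens, MonoidHom.map_closure, Subgroup.closure_le]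
    rintro z ⟨g, (rfl | rfl) | ⟨i, rfl⟩, rfl⟩
    · exact Subgroup.subset_closure (Or.inl rfl)
    · exact Subgroup.subset_closure (Or.inr rfl)
    · rw [show QuotientGroup.mk' Epart (pe i) = 1 from (QuotientGroup.eq_one_iff _).2 (pe_mem i)]
      exact one_mem _
  obtain ⟨-, hidx⟩ := hM (π px) (π py) hrel
  rw [htop, Nat.card_congr Subgroup.topEquiv.toEquiv] at hidx
  have hm := Epart.index_mul_card
  rw [hcard] at hm
  have hidx' : Epart.index ≤ 244823040 := hidx
  have h1 : Nat.card Epart = 2048 := by
    refine le_antisymm hEcard ?_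
    have := Nat.mul_le_mul_right (Nat.card Epart) hidx'
    omega
  refine ⟨h1, ?_⟩
  rw [h1] at hm
  omega

/-- The quotient by the translations is simple. -/
theorem normal_above_E (hM : M24Bound) (hcard : Nat.card P = 501397585920) (N : Subgroup P) [hN : N.Normal]
    (hE : Epart ≤ N) : N = Epart ∨ N = ⊤ := by
  obtain ⟨-, -, π, hbij, -, -⟩ := J4M24Bound96.exists_iso
  have : IsSimpleGroup Cfsg.M24 := Golay.isSimpleGroup_M24
  have eP : J4M24Bound96.P24 ≃* Cfsg.M24 := MulEquiv.ofBijective π hbij
  have : Nontrivial J4M24Bound96.P24 := eP.toEquiv.nontrivial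
  have : IsSimpleGroup J4M24Bound96.P24 :=
    IsSimpleGroup.isSimpleGroup_of_surjective eP.symm.toMonoidHom eP.symm.surjective
  obtain ⟨h1, h2, h3, h4, h5, h6, h7⟩ := hRel_P.m24
  let q : P →* P ⧸ Epart := QuotientGroup.mk' Epart
  have hrel : J4M24Bound96.Rels24 (q px) (q py) := by
    refine ⟨?_, ?_, ?_, ?_, ?_, ?_, ?_⟩ <;>
      simp only [← map_mul, ← map_inv, ← map_pow, h1, h2, h3, h4, h5, h6, h7, map_one]
  obtain ⟨ψ, -, -, hr⟩ := J4M24Bound96.exists_hom hrel
  have hsurj : Function.Surjective ψ := by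
    rw [← MonoidHom.range_eq_top, hr, eq_top_iff,
      ← MonoidHom.range_eq_top.2 (QuotientGroup.mk'_surjective Epart),
      MonoidHom.range_eq_map, ← closure_gens, MonoidHom.map_closure, Subgroup.closure_le]
    rintro z ⟨g, (rfl | rfl) | ⟨i, rfl⟩, rfl⟩
    · exact Subgroup.subset_closure (Or.inl rfl)
    · exact Subgroup.subset_closure (Or.inr rfl)
    · rw [show QuotientGroup.mk' Epart (pe i) = 1 from (QuotientGroup.eq_one_iff _).2 (pe_mem i)]
      exact one_mem _
  have : (N.map q).Normal := hN.map q (QuotientGroup.mk'_surjective Epart)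
  have hmap : (N.map q).comap ψ = ⊥ ∨ (N.map q).comap ψ = ⊤ := Subgroup.Normal.eq_bot_or_eq_top inferInstance
  have hker : q.ker ≤ N := by rw [QuotientGroup.ker_mk']; exact hE
  rcases hmap with h | h
  · left
    refine le_antisymm (fun p hp => ?_) hE
    obtain ⟨a, ha⟩ := hsurj (q p)
    have : a ∈ (N.map q).comap ψ := by
      rw [Subgroup.mem_comap, ha]
      exact ⟨p, hp, rfl⟩
    rw [h, Subgroup.mem_bot] at this
    rw [this, map_one] at ha
    exact (QuotientGroup.eq_one_iff _).1 ha.symm
  · right
    have hall : N.map q = ⊤ := by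
      rw [eq_top_iff]
      intro z _
      obtain ⟨a, rfl⟩ := hsurj z
      have ha : a ∈ (N.map q).comap ψ := by rw [h]; exact Subgroup.mem_top a
      exact ha
    have := congrArg (Subgroup.comap q) hall
    rwa [Subgroup.comap_map_eq_self hker, Subgroup.comap_top] at this

end Cfsg.Agent.Lib.J4Dce59
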