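import Cfsg.Agent.Lib.J4Dce59.Orbits
import Cfsg.Agent.Lib.J4Dce59.ModelNormal

/-!
# Simplicity of the presented Janko group
-/

set_option autoImplicit false
set_option maxRecDepth 20000

namespace Cfsg.Agent.Lib.J4Dce59

theorem model_normal (N : Subgroup P) [N.Normal] : N = ⊥ ∨ N = Epart ∨ N = ⊤ := by
  by_cases hu : pu ∈ N
  · exact Or.inr (normal_above_E m24Bound model_facts.2 N (E_le_of_pu model_facts.1 N hu))
  · exact Or.inl (normal_trivial model_facts.1 finite_P N fun p hp hpN =>
      hu (Code.eq_of model_facts.1 pu_code hp ▸ hpN))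

theorem szs_six : ¬ szs 6 ∣ 244823040 := by decide +kernel

theorem E_card' : Nat.card Epart = 2048 ∧ Epart.index = 244823040 := E_card m24Bound model_facts.2

/-- A normal subgroup cannot contain the translations and be contained in `2^11:M24`. -/
theorem not_fix_all (N : Subgroup J) [hN : N.Normal] (hE : Epart.map phi ≤ N) (hle : N ≤ env.H) :
    False := by
  have hfix : ∀ n ∈ N, ∀ x : env.Pts, n • x = x := by
    intro n hn x
    obtain ⟨g, rfl⟩ := QuotientGroup.mk_surjective x
    have h := (fix_base _).2 (hle (hN.conj_mem' n hn g))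
    rw [mul_assoc, mul_smul, inv_smul_eq_iff] at h
    rw [← smul_base, ← mul_smul]
    exact h
  letI : MulAction P env.Pts := MulAction.compHom env.Pts phi
  have hst : Epart ≤ MulAction.stabilizer P (env.pt Data.D 6) := fun p hp =>
    MulAction.mem_stabilizer_iff.2 (hfix (phi p) (hE ⟨p, hp, rfl⟩) (env.pt Data.D 6))
  have horb : MulAction.orbit P (env.pt Data.D 6) = Orbit 6 := by
    ext x; constructor
    · rintro ⟨p, rfl⟩; exact ⟨phi p, ⟨p, rfl⟩, rfl⟩
    · rintro ⟨g, ⟨p, rfl⟩, rfl⟩; exact ⟨p, rfl⟩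
  refine szs_six ?_
  have := Subgroup.index_dvd_of_le hst
  rw [MulAction.index_stabilizer, horb, ncard_orbit (by norm_num : 6 < 7), E_card'.2] at this
  exact this

/-- A normal subgroup inside `2^11:M24` is trivial. -/
theorem core_trivial (N : Subgroup J) [hN : N.Normal] (hle : N ≤ env.H) : N = ⊥ := by
  rcases model_normal (N.comap phi) with h | h | h
  · rw [eq_bot_iff]
    intro n hn
    obtain ⟨p, rfl⟩ := hle hn
    have : p ∈ N.comap phi := hn
    rw [h, Subgroup.mem_bot] at this
    change phi p ∈ (⊥ : Subgroup J)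
    simp [this]
  · exact (not_fix_all N (Subgroup.map_le_iff_le_comap.2 h.ge) hle).elim
  · exact (not_fix_all N (Subgroup.map_le_iff_le_comap.2 (h ▸ le_top)) hle).elim

theorem sup_eq_top (N : Subgroup J) [N.Normal] (hne : N ≠ ⊥) : env.H ⊔ N = ⊤ := by
  rcases H_maximal (env.H ⊔ N) le_sup_left with h | h
  · exact absurd (core_trivial N (le_sup_right.trans h.le)) hne
  · exact h

/-- The order of a normal supplement of `2^11:M24`. -/
theorem card_normal (N : Subgroup J) [N.Normal] (hne : N ≠ ⊥) :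
    Nat.card N = 173067389 * Nat.card (env.H ⊓ N : Subgroup J) := by
  have h := Subgroup.relIndex_sup_right env.H N
  rw [sup_eq_top N hne, Subgroup.relIndex_top_right, ← Subgroup.inf_relIndex_left] at h
  have hJ := N.index_mul_card
  rw [card_J] at hJ
  have hH := Subgroup.relIndex_mul_relIndex ⊥ (env.H ⊓ N) env.H bot_le inf_le_left
  rw [Subgroup.relIndex_bot_left, Subgroup.relIndex_bot_left, card_H, ← h] at hH
  have hpos : 0 < N.index := Nat.pos_of_ne_zero Subgroup.index_ne_zero_of_finite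
  refine Nat.eq_of_mul_eq_mul_left hpos ?_
  rw [hJ, Nat.mul_comm N.index, Nat.mul_assoc, hH]

theorem card_pow_prime {R : Type} [Group R] [Finite R] {p : ℕ} (hp : p.Prime) (h1 : p ∣ Nat.card R)
    (h2 : ¬ p * p ∣ Nat.card R) : p ∣ Nat.card {x : R // x ^ p = 1} ∧ ∃ g : R, g ^ p = 1 ∧ g ≠ 1 := by
  have : _root_.Fact p.Prime := ⟨hp⟩
  obtain ⟨g, hg⟩ := exists_prime_orderOf_dvd_card' p h1
  have hgp : g ^ p = 1 := hg ▸ pow_orderOf_eq_one g
  refine ⟨?_, g, hgp, fun e => by rw [e, orderOf_one] at hg; exact hp.one_lt.ne hg⟩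
  let X := {x : R // x ^ p = 1}
  let A := Subgroup.zpowers g
  letI : MulAction A X :=
    { smul := fun a x => ⟨(a : R) * x.1 * (a : R)⁻¹, by rw [conj_pow, x.2, mul_one, mul_inv_cancel]⟩
      one_smul := fun x => Subtype.ext (show ((1 : A) : R) * x.1 * ((1 : A) : R)⁻¹ = x.1 by simp)
      mul_smul := fun a b x => Subtype.ext
        (show ((a * b : A) : R) * x.1 * ((a * b : A) : R)⁻¹ =
          (a : R) * ((b : R) * x.1 * (b : R)⁻¹) * (a : R)⁻¹ by simp [mul_assoc]) }
  have hA : Nat.card A = p := by rw [Nat.card_zpowers, hg]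
  have hpA : IsPGroup p A := IsPGroup.of_card (n := 1) (by rw [hA, pow_one])
  have hmod := hpA.card_modEq_card_fixedPoints X
  have hfix : Nat.card (MulAction.fixedPoints A X) = p := by
    rw [← hA]
    refine Nat.card_congr (Equiv.ofBijective (fun x => (⟨x.1.1, ?_⟩ : A)) ⟨?_, ?_⟩)
    · have hc : g * x.1.1 * g⁻¹ = x.1.1 := congrArg Subtype.val (x.2 ⟨g, Subgroup.mem_zpowers g⟩)
      have hcomm : Commute g x.1.1 := mul_inv_eq_iff_eq_mul.1 hc
      by_contra hx
      have hne : x.1.1 ≠ 1 := fun e => hx (by rw [e]; exact one_mem _)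
      have hox : Nat.card (Subgroup.zpowers x.1.1) = p := by
        rw [Nat.card_zpowers, orderOf_eq_prime x.1.2 hne]
      let f : A × Subgroup.zpowers x.1.1 →* R :=
        MonoidHom.noncommCoprod A.subtype (Subgroup.zpowers x.1.1).subtype fun a b => by
          obtain ⟨a, i, rfl⟩ := a
          obtain ⟨b, j, rfl⟩ := b
          exact (hcomm.zpow_left i).zpow_right j
      have hinj : Function.Injective f := by
        rw [MonoidHom.noncommCoprod_injective]
        refine ⟨A.subtype_injective, (Subgroup.zpowers x.1.1).subtype_injective, ?_⟩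
        rw [Subgroup.range_subtype, Subgroup.range_subtype, disjoint_iff, Subgroup.eq_bot_iff_forall]
        rintro z ⟨hz1, hz2⟩
        by_contra hz
        have hoz : orderOf z = p := by
          rcases (Nat.dvd_prime hp).1 (hA ▸ orderOf_dvd_natCard (⟨z, hz1⟩ : A) ) with h | h
          · exact absurd (by simpa using h) hz
          · simpa using h
        refine hx ?_
        have e : Subgroup.zpowers z = Subgroup.zpowers x.1.1 := Subgroup.eq_of_le_of_card_ge
          (Subgroup.zpowers_le.2 hz2) (by rw [hox, Nat.card_zpowers, hoz])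
        exact Subgroup.zpowers_le.2 hz1 (e ▸ Subgroup.mem_zpowers x.1.1)
      refine h2 ?_
      have := Subgroup.card_subgroup_dvd_card f.range
      rwa [← Nat.card_congr (MonoidHom.ofInjective hinj).toEquiv, Nat.card_prod, hA, hox] at this
    · intro a b e
      exact Subtype.ext (Subtype.ext (congrArg (fun z : A => (z : R)) e))
    · rintro ⟨a, ha⟩
      have ha' : a ^ p = 1 := by
        obtain ⟨i, rfl⟩ := ha
        rw [← zpow_natCast, ← zpow_mul, mul_comm, zpow_mul, zpow_natCast, hgp, one_zpow]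
      refine ⟨⟨⟨a, ha'⟩, fun ⟨b, hb⟩ => Subtype.ext ?_⟩, rfl⟩
      obtain ⟨i, rfl⟩ := ha
      obtain ⟨j, rfl⟩ := hb
      show g ^ j * g ^ i * (g ^ j)⁻¹ = g ^ i
      rw [← zpow_add, add_comm, zpow_add, mul_inv_cancel_right]
  rw [hfix] at hmod
  exact Nat.modEq_zero_iff_dvd.1 (hmod.trans (Nat.modEq_zero_iff_dvd.2 dvd_rfl))

/-- The sets of nontrivial suborbits with size one less than a multiple of `p`. -/
def candSets (p : ℕ) : Finset (Finset ℕ) :=
  (Finset.range 7).powerset.filter fun S => 0 ∉ S ∧ ((∑ j ∈ S, szs j) + 1) % p = 0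

theorem cand_clash : ∀ a ∈ candSets 29, ∀ b ∈ candSets 31, ∀ c ∈ candSets 37, ∀ d ∈ candSets 43,
    ¬ (Disjoint a b ∧ Disjoint a c ∧ Disjoint a d ∧ Disjoint b c ∧ Disjoint b d ∧ Disjoint c d) := by
  decide +kernel

/-- There is no normal complement. -/
theorem no_regular (R : Subgroup J) [hR : R.Normal] (hne : R ≠ ⊥) (hinf : env.H ⊓ R = ⊥) : False := by
  have hcard : Nat.card R = 173067389 := by
    rw [card_normal R hne, hinf, Subgroup.card_bot, mul_one]
  have hinj : ∀ a b : R, (a : J) • base = (b : J) • base → a = b := fun a b e => by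
    have h : (b : J)⁻¹ * a ∈ env.H ⊓ R := by
      refine Subgroup.mem_inf.2 ⟨?_, mul_mem (inv_mem b.2) a.2⟩
      rw [← fix_base, mul_smul, e, inv_smul_smul]
    rw [hinf, Subgroup.mem_bot, inv_mul_eq_one] at h
    exact Subtype.ext h.symm
  have main : ∀ p : ℕ, p.Prime → p ∣ 173067389 → ¬ p * p ∣ 173067389 →
      ∃ S ∈ candSets p, ∀ j ∈ S, ∃ r : R, r ^ p = 1 ∧ r ≠ 1 ∧ (r : J) • base = env.pt Data.D j := by
    intro p hp h1 h2
    obtain ⟨hdvd, -⟩ := card_pow_prime (R := R) hp (hcard ▸ h1) (hcard ▸ h2)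
    let Y : Set env.Pts := {x | ∃ r : R, r ^ p = 1 ∧ r ≠ 1 ∧ (r : J) • base = x}
    obtain ⟨S, hS, hY, hpart⟩ := exists_parts Y fun h hh y ⟨r, hr, hr1, e⟩ => by
      refine ⟨⟨h * r * h⁻¹, hR.conj_mem r r.2 h⟩, Subtype.ext ?_, fun e' => hr1 (Subtype.ext ?_), ?_⟩
      · have := congrArg Subtype.val hr
        simp only [SubmonoidClass.coe_pow, OneMemClass.coe_one] at this ⊢
        rw [conj_pow, this, mul_one, mul_inv_cancel]
      · have := congrArg Subtype.val e'
        simpa using this
      · show (h * r * h⁻¹) • base = h • y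
        rw [mul_smul, mul_smul, (fix_base _).2 (inv_mem hh), e]
    refine ⟨S, Finset.mem_filter.2 ⟨hS, fun h0 => ?_, ?_⟩, fun j hj => (hpart j hj).1⟩
    · obtain ⟨r, -, hr1, e⟩ := (hpart 0 h0).1
      rw [pt_zero] at e
      exact hr1 (hinj r 1 (by rw [e, OneMemClass.coe_one, one_smul]))
    · have hX : Nat.card {x : R // x ^ p = 1} = Y.ncard + 1 := by
        have hY' : Y = (fun r : R => (r : J) • base) '' ({x : R | x ^ p = 1} \ {1}) := by
          ext z; constructor
          · rintro ⟨r, hr, hr1, e⟩; exact ⟨r, ⟨hr, hr1⟩, e⟩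
          · rintro ⟨r, ⟨hr, hr1⟩, e⟩; exact ⟨r, hr, hr1, e⟩
        rw [hY', Set.ncard_image_of_injective _ fun a b => hinj a b,
          Set.ncard_diff_singleton_add_one (by simp) (Set.toFinite _)]
        exact (Nat.card_coe_set_eq _)
      rw [← hY, ← hX]
      exact Nat.mod_eq_zero_of_dvd hdvd
  have disj : ∀ {p q : ℕ} {S T : Finset ℕ}, p.Coprime q →
      (∀ j ∈ S, ∃ r : R, r ^ p = 1 ∧ r ≠ 1 ∧ (r : J) • base = env.pt Data.D j) →
      (∀ j ∈ T, ∃ r : R, r ^ q = 1 ∧ r ≠ 1 ∧ (r : J) • base = env.pt Data.D j) → Disjoint S T := by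
    intro p q S T hpq hS hT
    rw [Finset.disjoint_left]
    intro j hjS hjT
    obtain ⟨r, hr, hr1, e⟩ := hS j hjS
    obtain ⟨s, hs, -, e'⟩ := hT j hjT
    obtain rfl := hinj r s (e.trans e'.symm)
    exact hr1 (orderOf_eq_one_iff.1 (Nat.eq_one_of_dvd_coprimes hpq
      (orderOf_dvd_of_pow_eq_one hr) (orderOf_dvd_of_pow_eq_one hs)))
  obtain ⟨a, ha, ha'⟩ := main 29 (by norm_num) (by norm_num) (by norm_num)
  obtain ⟨b, hb, hb'⟩ := main 31 (by norm_num) (by norm_num) (by norm_num)
  obtain ⟨c, hc, hc'⟩ := main 37 (by norm_num) (by norm_num) (by norm_num)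
  obtain ⟨d, hd, hd'⟩ := main 43 (by norm_num) (by norm_num) (by norm_num)
  exact cand_clash a ha b hb c hc d hd ⟨disj (by norm_num) ha' hb', disj (by norm_num) ha' hc',
    disj (by norm_num) ha' hd', disj (by norm_num) hb' hc', disj (by norm_num) hb' hd',
    disj (by norm_num) hc' hd'⟩

theorem no_E_part (N : Subgroup J) [hN : N.Normal] (h : env.H ⊓ N = Epart.map phi) : False := by
  have hE : Nat.card (env.H ⊓ N : Subgroup J) = 2048 := by
    rw [h, Nat.card_congr (Subgroup.equivMapOfInjective _ phi phi_injective).symm.toEquiv]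
    exact E_card'.1
  have hne : N ≠ ⊥ := fun e => by
    rw [e, inf_bot_eq, Subgroup.card_bot] at hE; omega
  have hcard : Nat.card N = 173067389 * 2048 := by rw [card_normal N hne, hE]
  let W : Subgroup N := (env.H ⊓ N).subgroupOf N
  have hW : Nat.card W = 2 ^ 11 := by
    rw [Nat.card_congr (Subgroup.subgroupOfEquivOfLe (inf_le_right : env.H ⊓ N ≤ N)).toEquiv, hE]
    norm_num
  have : _root_.Fact (Nat.Prime 2) := ⟨Nat.prime_two⟩
  let Q : Sylow 2 N := Sylow.ofCard W (by
    rw [hW, hcard, show 173067389 * 2048 = 2 ^ 11 * 173067389 by norm_num,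
      Nat.factorization_mul (by norm_num) (by norm_num), Finsupp.add_apply,
      Nat.Prime.factorization_pow Nat.prime_two, Finsupp.single_eq_same,
      Nat.factorization_eq_zero_of_not_dvd (by norm_num)])
  have hQW : (Q : Subgroup N) = W := rfl
  have habel : ∀ a ∈ Epart.map phi, ∀ b ∈ Epart.map phi, a * b = b * a := by
    have hle : Epart ≤ Subgroup.centralizer (Epart : Set P) := by
      have hgen : Subgroup.closure (Set.range pe) ≤ Subgroup.centralizer (Set.range pe) := by
        rw [Subgroup.closure_le]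
        rintro z ⟨i, rfl⟩ w ⟨j, rfl⟩
        exact hRel_P.comm j i
      rw [← Subgroup.centralizer_closure] at hgen
      exact hgen
    rintro _ ⟨a, ha, rfl⟩ _ ⟨b, hb, rfl⟩
    rw [← map_mul, ← map_mul, hle hb a ha]
  have hnorm : Subgroup.normalizer (W : Set N) ≤ Subgroup.centralizer (W : Set N) := by
    intro n hn w hw
    have hnH : (n : J) ∈ env.H := by
      have hK : env.H ≤ Subgroup.normalizer ((env.H ⊓ N : Subgroup J) : Set J) := fun g hg => by
        rw [h]
        obtain ⟨p, rfl⟩ := hg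
        refine Subgroup.mem_normalizer_iff.2 fun z => ⟨?_, ?_⟩
        · rintro ⟨e, he, rfl⟩
          exact ⟨p * e * p⁻¹, Epart_normal.conj_mem e he p, by rw [map_mul, map_mul, map_inv]; rfl⟩
        · rintro ⟨e, he, h'⟩
          exact ⟨p⁻¹ * e * p, Epart_normal.conj_mem' e he p, by
            rw [map_mul, map_mul, map_inv, h', show env.φ = phi from rfl]; group⟩
      rcases H_maximal _ hK with h' | h'
      · rw [← h']
        refine Subgroup.mem_normalizer_iff.2 fun z => ⟨fun hz => ?_, fun hz => ?_⟩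
        · have hzN := hz.2
          exact (Subgroup.mem_normalizer_iff.1 hn ⟨z, hzN⟩).1 hz
        · have hzN : z ∈ N := by
            have := hN.conj_mem' _ hz.2 (n : J)
            simpa [mul_assoc] using this
          exact (Subgroup.mem_normalizer_iff.1 hn ⟨z, hzN⟩).2 hz
      · have hnorm' : (env.H ⊓ N : Subgroup J).Normal := Subgroup.normalizer_eq_top_iff.1 h'
        exact (not_fix_all (env.H ⊓ N) h.ge inf_le_left).elim
    have hn' : (n : J) ∈ Epart.map phi := h ▸ ⟨hnH, n.2⟩
    have hw' : (w : J) ∈ Epart.map phi := h ▸ hw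
    exact Subtype.ext (habel _ hw' _ hn')
  have hcomp := MonoidHom.ker_transferSylow_isComplement' Q hnorm
  set K := (MonoidHom.transferSylow Q hnorm).ker with hK
  have hKcard : Nat.card K = 173067389 := by
    have := hcomp.card_mul
    rw [hQW, hW, hcard] at this
    omega
  have hKidx : K.index = 2048 := by
    have := K.index_mul_card
    rw [hKcard, hcard] at this
    omega
  have hmem : ∀ n : N, n ^ 173067389 = 1 → n ∈ K := fun n hn => by
    rw [← QuotientGroup.eq_one_iff, ← orderOf_eq_one_iff]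
    refine Nat.eq_one_of_dvd_coprimes (a := 173067389) (b := 2048) (by norm_num) ?_ ?_
    · exact orderOf_dvd_of_pow_eq_one (by rw [← QuotientGroup.mk_pow, hn, QuotientGroup.mk_one])
    · exact hKidx ▸ orderOf_dvd_natCard (n : N ⧸ K)
  let R : Subgroup J := K.map N.subtype
  have hRn : R.Normal := ⟨by
    rintro _ ⟨n, hn, rfl⟩ g
    refine ⟨⟨g * n * g⁻¹, hN.conj_mem n n.2 g⟩, hmem _ (Subtype.ext ?_), rfl⟩
    have h1 : n ^ 173067389 = 1 := by
      have := pow_card_eq_one' (x := (⟨n, hn⟩ : K))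
      rw [hKcard] at this
      exact congrArg Subtype.val this
    rw [SubmonoidClass.coe_pow, conj_pow, ← SubmonoidClass.coe_pow, h1, OneMemClass.coe_one, mul_one,
      mul_inv_cancel]⟩
  have hRcard : Nat.card R = 173067389 := by
    rw [← hKcard]
    exact Nat.card_congr (Subgroup.equivMapOfInjective _ _ N.subtype_injective).symm.toEquiv
  refine no_regular R (fun e => ?_) ?_
  · rw [e, Subgroup.card_bot] at hRcard; omega
  · rw [← Subgroup.card_eq_one]
    refine Nat.eq_one_of_dvd_coprimes (a := 2048) (b := 173067389) (by norm_num) ?_ ?_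
    · rw [← hE]
      exact Subgroup.card_dvd_of_le (le_inf inf_le_left (inf_le_right.trans
        (Subgroup.map_le_iff_le_comap.2 fun n _ => n.2)))
    · exact hRcard ▸ Subgroup.card_dvd_of_le inf_le_right

/-- The presented group is simple. -/
theorem isSimple_J : IsSimpleGroup J := by
  have : Nontrivial J := ⟨⟨J4Low8.jx, 1, J4Low8.jx_ne_one⟩⟩
  refine ⟨fun N hN => ?_⟩
  by_cases hne : N = ⊥
  · exact Or.inl hne
  right
  rcases model_normal (N.comap phi) with h | h | h
  · refine (no_regular N hne ?_).elim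
    rw [eq_bot_iff]
    rintro _ ⟨⟨p, rfl⟩, hp⟩
    have : p ∈ N.comap phi := hp
    rw [h, Subgroup.mem_bot] at this
    change phi p ∈ (⊥ : Subgroup J)
    simp [this]
  · refine (no_E_part N ?_).elim
    rw [← h, Subgroup.map_comap_eq]
    rfl
  · rw [← sup_eq_top N hne, eq_comm, sup_eq_right]
    rintro _ ⟨p, rfl⟩
    exact (h ▸ Subgroup.mem_top p : p ∈ N.comap phi)

end Cfsg.Agent.Lib.J4Dce59
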