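import Cfsg.Agent.Lib.J4Dce59.Main

/-!
# The suborbits of the presented Janko group
-/

set_option autoImplicit false
set_option maxRecDepth 20000

namespace Cfsg.Agent.Lib.J4Dce59

/-- The size of suborbit `j`. -/
def szs (j : ℕ) : ℕ :=
  ([1, 15180, 3400320, 32643072, 28336, 54405120, 82575360] : List ℕ).getD j 0

theorem szs_eq {j : ℕ} (hj : j < 7) : (Data.C.orb j).size = szs j :=
  match j, hj with
  | 0, _ => Check.chain0.2.2
  | 1, _ => Check.chain1.2.2
  | 2, _ => Check.chain2.2.2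
  | 3, _ => Check.chain3.2.2
  | 4, _ => Check.chain4.2.2
  | 5, _ => Check.chain5.2.2
  | 6, _ => Check.chain6.2.2
  | k + 7, h => absurd h (by omega)

theorem szs_sum : ∑ j ∈ Finset.range 7, szs j = 173067389 := by decide +kernel

theorem szs_pos : ∀ j < 7, 0 < szs j := by decide +kernel

/-- The suborbit `j`. -/
abbrev Orbit (j : ℕ) : Set env.Pts := env.orb Data.D j

/-- The base point. -/
noncomputable abbrev base : env.Pts := ((1 : J) : env.Pts)

theorem smul_base (g : J) : g • base = ((g : J) : env.Pts) := by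
  show ((g * 1 : J) : env.Pts) = _
  rw [mul_one]

theorem fix_base (g : J) : g • base = base ↔ g ∈ env.H := by
  rw [smul_base, QuotientGroup.eq, mul_one, inv_mem_iff]

theorem pt_zero : env.pt Data.D 0 = base := by rw [Env.pt, w_zero, inv_one]

theorem orbit_smul {j : ℕ} {h : J} (hh : h ∈ env.H) {x : env.Pts} (hx : x ∈ Orbit j) :
    h • x ∈ Orbit j := by
  obtain ⟨g, hg, rfl⟩ := hx
  exact ⟨h * g, mul_mem hh hg, (mul_smul h g _).symm⟩

theorem pt_mem_orbit (j : ℕ) : env.pt Data.D j ∈ Orbit j := ⟨1, one_mem _, (one_smul _ _).symm⟩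

theorem cover_orbit (x : env.Pts) : ∃ j < 7, x ∈ Orbit j := by
  obtain ⟨j, hj, hx⟩ := U_univ env Check.covOK finite_P env_gen x
  exact ⟨j, Check.len7 ▸ hj, hx⟩

theorem ncard_univ_pts : (Set.univ : Set env.Pts).ncard = 173067389 := by
  rw [Set.ncard_univ]
  exact index_H

theorem ncard_orbit_le {j : ℕ} (hj : j < 7) : (Orbit j).ncard ≤ szs j :=
  szs_eq hj ▸ (orb_card env Check.covOK finite_P model_facts.2 (Check.len7.symm ▸ hj)).2

theorem ncard_iUnion_le (S : Finset ℕ) (hS : ∀ j ∈ S, j < 7) :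
    (⋃ j ∈ S, Orbit j).ncard ≤ ∑ j ∈ S, (Orbit j).ncard :=
  Finset.set_ncard_biUnion_le _ _

theorem univ_eq : (Set.univ : Set env.Pts) = ⋃ j ∈ Finset.range 7, Orbit j := by
  ext x
  obtain ⟨j, hj, hx⟩ := cover_orbit x
  simp only [Set.mem_univ, Set.mem_iUnion, true_iff]
  exact ⟨j, Finset.mem_range.2 hj, hx⟩

/-- The sizes of the suborbits are exact. -/
theorem ncard_orbit {j : ℕ} (hj : j < 7) : (Orbit j).ncard = szs j := by
  refine le_antisymm (ncard_orbit_le hj) ?_
  by_contra h
  have hlt : ∑ i ∈ Finset.range 7, (Orbit i).ncard < ∑ i ∈ Finset.range 7, szs i :=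
    Finset.sum_lt_sum (fun i hi => ncard_orbit_le (Finset.mem_range.1 hi))
      ⟨j, Finset.mem_range.2 hj, not_le.1 h⟩
  have h2 := ncard_univ_pts ▸ univ_eq ▸ ncard_iUnion_le (Finset.range 7) fun i hi => Finset.mem_range.1 hi
  rw [szs_sum] at hlt
  exact absurd (lt_of_le_of_lt h2 hlt) (lt_irrefl _)

/-- Different suborbits are disjoint. -/
theorem orbit_eq_of_mem {i j : ℕ} (hi : i < 7) (hj : j < 7) {x : env.Pts} (h₁ : x ∈ Orbit i)
    (h₂ : x ∈ Orbit j) : i = j := by
  by_contra hne
  obtain ⟨g, hg, rfl⟩ := h₁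
  obtain ⟨k, hk, e⟩ := h₂
  have hsub : Orbit j ⊆ Orbit i := by
    rintro _ ⟨l, hl, rfl⟩
    refine ⟨l * (k⁻¹ * g), mul_mem hl (mul_mem (inv_mem hk) hg), ?_⟩
    rw [mul_smul, mul_smul, e, inv_smul_smul]
  have hU : (Set.univ : Set env.Pts) = ⋃ l ∈ (Finset.range 7).erase j, Orbit l := by
    ext x
    obtain ⟨l, hl, hx⟩ := cover_orbit x
    simp only [Set.mem_univ, Set.mem_iUnion, true_iff, Finset.mem_erase, Finset.mem_range]
    by_cases hlj : l = j
    · subst hlj; exact ⟨i, ⟨hne, hi⟩, hsub hx⟩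
    · exact ⟨l, ⟨hlj, hl⟩, hx⟩
  have h2 := ncard_univ_pts ▸ hU ▸ ncard_iUnion_le ((Finset.range 7).erase j)
    fun l hl => Finset.mem_range.1 (Finset.mem_of_mem_erase hl)
  rw [Finset.sum_congr rfl fun l hl => ncard_orbit (Finset.mem_range.1 (Finset.mem_of_mem_erase hl))]
    at h2
  have h3 := Finset.sum_erase_add (Finset.range 7) szs (Finset.mem_range.2 hj)
  have h4 := szs_pos j hj
  rw [szs_sum] at h3
  omega

theorem orbit_zero {x : env.Pts} : x ∈ Orbit 0 ↔ x = base := by
  constructor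
  · rintro ⟨g, hg, rfl⟩
    rw [pt_zero, fix_base]
    exact hg
  · rintro rfl
    exact pt_zero ▸ pt_mem_orbit 0

/-- The suborbits in a set invariant under `2^11:M24`. -/
theorem exists_parts (Y : Set env.Pts) (hY : ∀ h ∈ env.H, ∀ y ∈ Y, h • y ∈ Y) :
    ∃ S ∈ (Finset.range 7).powerset, Y.ncard = ∑ j ∈ S, szs j ∧ ∀ j ∈ S, env.pt Data.D j ∈ Y ∧
      Orbit j ⊆ Y ∧ ∀ i < 7, env.pt Data.D i ∈ Y → i ∈ S := by
  classical
  refine ⟨(Finset.range 7).filter fun j => env.pt Data.D j ∈ Y, Finset.mem_powerset.2 (Finset.filter_subset _ _),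
    ?_, fun j hj => ⟨(Finset.mem_filter.1 hj).2, ?_, fun i hi h => Finset.mem_filter.2 ⟨Finset.mem_range.2 hi, h⟩⟩⟩
  · have hsplit : Y = ⋃ j ∈ (Finset.range 7).filter fun j => env.pt Data.D j ∈ Y, Orbit j := by
      ext x
      simp only [Set.mem_iUnion, Finset.mem_filter, Finset.mem_range]
      constructor
      · intro hx
        obtain ⟨j, hj, hxo⟩ := cover_orbit x
        refine ⟨j, ⟨hj, ?_⟩, hxo⟩
        obtain ⟨g, hg, rfl⟩ := hxo
        simpa using hY g⁻¹ (inv_mem hg) _ hx
      · rintro ⟨j, ⟨-, hjy⟩, g, hg, rfl⟩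
        exact hY g hg _ hjy
    have hfin : ∀ j, (Orbit j).Finite := fun j => Set.toFinite _
    have hcard : (((Finset.range 7).filter fun j => env.pt Data.D j ∈ Y).biUnion
        fun j => (hfin j).toFinset).card = Y.ncard := by
      rw [← Set.ncard_coe_finset]
      congr 1
      conv_rhs => rw [hsplit]
      simp
    rw [← hcard, Finset.card_biUnion]
    · refine Finset.sum_congr rfl fun j hj => ?_
      rw [← Set.ncard_eq_toFinset_card _ (hfin j),
        ncard_orbit (Finset.mem_range.1 (Finset.mem_filter.1 hj).1)]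
    · intro i hi j hj hne
      rw [Function.onFun, Finset.disjoint_left]
      intro x hx hx'
      simp only [Set.Finite.mem_toFinset] at hx hx'
      exact hne (orbit_eq_of_mem (Finset.mem_range.1 (Finset.mem_filter.1 hi).1)
        (Finset.mem_range.1 (Finset.mem_filter.1 hj).1) hx hx')
  · rintro _ ⟨g, hg, rfl⟩
    exact hY g hg _ (Finset.mem_filter.1 hj).2

theorem block_sums : ∀ S ∈ (Finset.range 7).powerset, 0 ∈ S → (∑ j ∈ S, szs j) ∣ 173067389 →
    (∑ j ∈ S, szs j) = 1 ∨ (∑ j ∈ S, szs j) = 173067389 := by decide +kernel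

/-- `2^11:M24` is a maximal subgroup. -/
theorem H_maximal (K : Subgroup J) (hK : env.H ≤ K) : K = env.H ∨ K = ⊤ := by
  let Y : Set env.Pts := {x | ∃ k ∈ K, k • base = x}
  obtain ⟨S, hS, hcard, hpart⟩ := exists_parts Y fun h hh y ⟨k, hk, e⟩ =>
    ⟨h * k, mul_mem (hK hh) hk, by rw [mul_smul, e]⟩
  have hb : base ∈ Y := ⟨1, one_mem _, one_smul _ _⟩
  have h0 : 0 ∈ S := by
    obtain ⟨S', hS'⟩ : ∃ j, j ∈ S := by
      by_contra hne
      rw [Finset.eq_empty_of_forall_notMem fun j hj => hne ⟨j, hj⟩, Finset.sum_empty,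
        Set.ncard_eq_zero (Set.toFinite _)] at hcard
      exact Set.notMem_empty _ (hcard ▸ hb)
    exact (hpart S' hS').2.2 0 (by norm_num) (pt_zero ▸ hb)
  have hY : Y.ncard = env.H.relIndex K := by
    have : Y = Set.range (fun q : K ⧸ env.H.subgroupOf K => Quotient.liftOn' q
        (fun k : K => (k : J) • base) fun a b hab => by
          have := QuotientGroup.leftRel_apply.1 hab
          show (a : J) • base = (b : J) • base
          rw [smul_base, smul_base, QuotientGroup.eq]
          exact this) := by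
      ext x; constructor
      · rintro ⟨k, hk, rfl⟩; exact ⟨((⟨k, hk⟩ : K) : K ⧸ _), rfl⟩
      · rintro ⟨q, rfl⟩
        induction q using QuotientGroup.induction_on with
        | _ k => exact ⟨k, k.2, rfl⟩
    rw [this, Set.ncard_range_of_injective]
    · rfl
    · intro a b e
      induction a using QuotientGroup.induction_on with
      | _ a =>
      induction b using QuotientGroup.induction_on with
      | _ b =>
      have e' : (a : J) • base = (b : J) • base := e
      rw [smul_base, smul_base, QuotientGroup.eq] at e'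
      exact QuotientGroup.eq.2 e'
  have hdvd : (∑ j ∈ S, szs j) ∣ 173067389 := by
    rw [← hcard, hY, ← index_H]
    exact Dvd.intro _ (Subgroup.relIndex_mul_index hK)
  rcases block_sums S hS h0 hdvd with h | h
  · refine Or.inl (le_antisymm (Subgroup.relIndex_eq_one.1 ?_) hK)
    rw [← hY, hcard, h]
  · refine Or.inr (Subgroup.index_eq_one.1 ?_)
    have := Subgroup.relIndex_mul_index hK
    rw [← hY, hcard, h, index_H] at this
    omega

end Cfsg.Agent.Lib.J4Dce59
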