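import Mathlib

/-!
# Checks over intervals
-/

set_option autoImplicit false

namespace Cfsg.Agent.Lib.J4Dce59

/-- The check holds from `a` up to, not including, `b`. -/
def Iv (p : ℕ → Bool) (a b : ℕ) : Prop := ∀ n, a ≤ n → n < b → p n = true

/-- The Boolean check of an interval. -/
def chk (p : ℕ → Bool) (a k : ℕ) : Bool := (List.range k).all fun i => p (a + i)

theorem Iv.of_chk {p : ℕ → Bool} {a k : ℕ} (h : chk p a k = true) : Iv p a (a + k) := fun n hn hn' => by
  have := List.all_eq_true.1 h (n - a) (List.mem_range.2 (by omega))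
  rwa [Nat.add_sub_cancel' hn] at this

theorem Iv.join {p : ℕ → Bool} {a b c : ℕ} (h : Iv p a b) (h' : Iv p b c) : Iv p a c := fun n hn hn' => by
  rcases Nat.lt_or_ge n b with hb | hb
  · exact h n hn hb
  · exact h' n hb hn'

theorem Iv.all {p : ℕ → Bool} {b : ℕ} (h : Iv p 0 b) : ∀ n, n < b → p n = true := fun n hn =>
  h n (Nat.zero_le n) hn

end Cfsg.Agent.Lib.J4Dce59
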