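import Cfsg.Agent.Lib.J4Dce59.Inj

/-!
# From the certificate to the bound on the number of cosets
-/

set_option autoImplicit false
set_option maxRecDepth 20000

namespace Cfsg.Agent.Lib.J4Dce59

universe u

/-- All checks of a certificate. -/
structure CovOK (D : Deriv) (C : Cov) : Prop where
  els : ElsOK D
  facts : ∀ n, n < D.n → okFact D n = true
  rep : rT D C 0 = one
  len : 0 < C.orbs.length
  move : ∀ n, n < 7590 → okMove D C n = true
  trio : ∀ j, j < C.orbs.length → ∀ T, T < 3795 → okTrio D C j T = true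
  root : ∀ j, j < C.orbs.length → ∀ n, n < (C.orb j).roots.length → okRoot D C j n = true
  v : ∀ j, j < C.orbs.length → ∀ n, n < (C.orb j).roots.length → ∀ v, v < 2048 → okV D C j n v = true
  sel : ∀ j, j < C.orbs.length → ∀ n, n < (C.orb j).selN → okSel D C j n = true
  chain : ∀ j, j < C.orbs.length → chainOK (sC C j) (C.orb j).levels = true
  size : ∀ j, j < C.orbs.length → chainProd (C.orb j).levels * (C.orb j).size = 501397585920

variable {G : Type u} [Group G] (V : Env G) {D : Deriv} {C : Cov}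

/-- The coset space. -/
abbrev Env.Pts : Type u := G ⧸ V.H

/-- The base point of orbit `j`. -/
noncomputable def Env.pt (D : Deriv) (j : ℕ) : V.Pts := ((V.w D j)⁻¹ : G)

/-- The points reached by `H` from one base point. -/
def Env.orb (D : Deriv) (j : ℕ) : Set V.Pts := {x | ∃ h ∈ V.H, x = h • V.pt D j}

/-- The points reached by `H` from the first `m` base points. -/
def Env.U (D : Deriv) (m : ℕ) : Set V.Pts := {x | ∃ j < m, x ∈ V.orb D j}

/-- The image of `g` times the base point of orbit `j` is reached after `t`. -/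
def Env.A (D : Deriv) (m j : ℕ) (g : G) : Prop := V.t • g⁻¹ • V.pt D j ∈ V.U D m

/-- The translations in the image. -/
noncomputable def Env.E : Subgroup G := Epart.map V.φ

theorem Env.U_smul {m : ℕ} {x : V.Pts} {h : G} (hh : h ∈ V.H) (hx : x ∈ V.U D m) :
    h • x ∈ V.U D m := by
  obtain ⟨j, hj, g, hg, rfl⟩ := hx
  exact ⟨j, hj, h * g, mul_mem hh hg, (mul_smul h g _).symm⟩

theorem Env.pt_fix {j : ℕ} {s : G} (h : V.Sim (V.w D j * s) (V.w D j)) : s • V.pt D j = V.pt D j := by
  show ((s * (V.w D j)⁻¹ : G) : V.Pts) = ((V.w D j)⁻¹ : G)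
  rw [QuotientGroup.eq]
  have := V.sim_symm h
  rw [Env.Sim, mul_inv_rev] at this
  rw [mul_inv_rev, inv_inv, mul_assoc]
  exact this

theorem Env.A_left {m j : ℕ} {s g : G} (hs : V.Sim (V.w D j * s) (V.w D j)) (h : V.A D m j g) :
    V.A D m j (s * g) := by
  have : s⁻¹ • V.pt D j = V.pt D j := by rw [inv_smul_eq_iff, V.pt_fix hs]
  rw [Env.A, mul_inv_rev, mul_smul, this]
  exact h

theorem Env.A_right {m j : ℕ} {k g : G} (hk : k ∈ V.H) (hkt : Commute k V.t) (h : V.A D m j g) :
    V.A D m j (g * k) := by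
  rw [Env.A, mul_inv_rev, mul_smul, ← mul_smul V.t, ← hkt.inv_left.eq, mul_smul]
  exact V.U_smul (inv_mem hk) h

theorem Env.E_mem {e : G} (he : e ∈ V.E) : ∃ v < 2048, e = V.val (tr v) := by
  obtain ⟨p, hp, rfl⟩ := he
  obtain ⟨S, -, hmem, hf, -⟩ := Epart_spec
  obtain ⟨v, hv, hc⟩ := hf p ((hmem p).2 hp)
  exact ⟨v, hv, (V.val_eq hc).symm⟩

theorem Env.tr_mem {v : ℕ} (hv : v < 2048) : IsEl (tr v) ∧ V.val (tr v) ∈ V.E := by
  obtain ⟨S, -, hmem, -, hb⟩ := Epart_spec
  obtain ⟨p, hp, hc⟩ := hb v hv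
  exact ⟨⟨p, hc⟩, p, (hmem p).1 hp, (V.val_eq hc).symm⟩

theorem Env.E_le : V.E ≤ V.H := by
  rintro _ ⟨p, -, rfl⟩; exact ⟨p, rfl⟩

theorem Env.E_conj {h e : G} (hh : h ∈ V.H) (he : e ∈ V.E) :
    h * e * h⁻¹ ∈ V.E ∧ h⁻¹ * e * h ∈ V.E := by
  obtain ⟨p, rfl⟩ := hh
  obtain ⟨q, hq, rfl⟩ := he
  exact ⟨⟨p * q * p⁻¹, Epart_normal.conj_mem q hq p, by simp⟩,
    ⟨p⁻¹ * q * p, Epart_normal.conj_mem' q hq p, by simp⟩⟩

variable (hC : CovOK D C)
include hC

theorem val_facts (n : ℕ) (hn : n < D.n) : Val V D (D.fact.get n) := all_facts V hC.els hC.facts n hn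

theorem sEv_val {j : ℕ} {l : List ℕ} {r : ℕ} (h : sEv D D.n j l = some r) :
    IsEl r ∧ V.Sim (V.w D j * V.val r) (V.w D j) :=
  sEv_spec V (fun m hm => val_facts V hC m hm) j l r h

theorem rT_mem (T : ℕ) : IsEl (rT D C T) ∧ V.val (rT D C T) ∈ V.H :=
  ⟨isEl_c hC.els _, V.val_mem (isEl_c hC.els _)⟩

theorem A_root {j n : ℕ} (hj : j < C.orbs.length) (hn : n < (C.orb j).roots.length) :
    ∀ v, v < 2048 →
      V.A D C.orbs.length j (V.val (tr v) * V.val (rT D C ((C.orb j).rootAt n).T)) := by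
  set R := (C.orb j).rootAt n with hR
  intro v
  induction hv : (R.vt.get v).rk using Nat.strong_induction_on generalizing v with
  | _ rk ih =>
  intro hlt
  have h := hC.v j hj n hn v hlt
  rw [okV, ← hR] at h
  obtain ⟨hTE, hTH⟩ := rT_mem V hC R.T
  obtain ⟨hvE, hvm⟩ := V.tr_mem hlt
  split at h
  · next f _ =>
    rw [and_iff] at h
    obtain ⟨hf, h⟩ := h
    split at h
    · next i h' j' g' hfa =>
      simp only [and_iff, beq_iff', Nat.blt_eq] at h
      obtain ⟨⟨rfl, hj'⟩, rfl⟩ := h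
      have hval := val_facts V hC f (Nat.blt_eq.mp hf)
      rw [hfa] at hval
      obtain ⟨-, hg, hsim⟩ := hval
      rw [V.val_mul hvE hTE] at hsim
      refine ⟨j', hj', (V.val g')⁻¹, inv_mem (V.val_mem hg), ?_⟩
      have ht : V.t⁻¹ = V.t := inv_eq_of_mul_eq_one_right V.t_sq
      show ((V.t * ((V.val (tr v) * V.val (rT D C R.T))⁻¹ * (V.w D i)⁻¹) : G) : V.Pts) =
        (((V.val g')⁻¹ * (V.w D j')⁻¹ : G) : V.Pts)
      have e := V.sim_symm hsim
      rw [eq_comm, QuotientGroup.eq]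
      rw [Env.Sim] at e
      rw [mul_inv_rev, inv_inv, inv_inv]
      simpa [mul_assoc, ht] using e
    · simp at h
  · next rk' par g hget =>
    simp only [and_iff, Nat.blt_eq] at h
    obtain ⟨⟨hpar, hrk⟩, h⟩ := h
    split at h
    · next e he =>
      rw [beq_iff'] at h
      have hroot := hC.root j hj n hn
      rw [okRoot, ← hR, List.all_eq_true] at hroot
      have hg := hroot e (List.mem_of_getElem? he)
      rw [okVGen] at hg
      split at hg
      · next r hr =>
        simp only [and_iff, beq_iff', Nat.blt_eq] at hg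
        obtain ⟨⟨⟨rfl, hc⟩, hcr⟩, heq⟩ := hg
        obtain ⟨hrE, hrsim⟩ := sEv_val V hC hr
        obtain ⟨hkE, hkt⟩ := kev_spec V hC.els e.k
        obtain ⟨hcE, -⟩ := V.tr_mem hc
        obtain ⟨hpE, -⟩ := V.tr_mem hpar
        have hcrE : IsEl e.cr := hcr ▸ hcE.mul hrE
        have e1 := congrArg V.val heq
        rw [V.val_mul hcrE hTE, V.val_mul hTE hkE] at e1
        have e2 := congrArg V.val h
        rw [V.val_mul hrE hpE, V.val_mul hvE hcrE] at e2
        have hA := ih _ (by rw [← hv, hget]; exact hrk) par rfl hpar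
        have hA2 := V.A_right (inv_mem (V.val_mem hkE)) hkt.inv_left (V.A_left hrsim hA)
        have key : V.val (tr v) * V.val (rT D C R.T) =
            V.val e.r * (V.val (tr par) * V.val (rT D C R.T)) * (V.val (ev D.k e.k))⁻¹ := by
          rw [eq_mul_inv_iff_mul_eq, mul_assoc, ← e1, ← mul_assoc, ← e2, mul_assoc]
        rw [key]
        exact hA2
      · simp at hg
    · simp at h

theorem A_trio {j : ℕ} (hj : j < C.orbs.length) : ∀ T, T < 3795 → ∀ e ∈ V.E,
    V.A D C.orbs.length j (e * V.val (rT D C T)) := by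
  intro T
  induction hT : ((C.orb j).trio.get T).rk using Nat.strong_induction_on generalizing T with
  | _ rk ih =>
  intro hlt e he
  have h := hC.trio j hj T hlt
  rw [okTrio] at h
  split at h
  · next n _ =>
    simp only [and_iff, beq_iff', Nat.blt_eq] at h
    obtain ⟨hn, hroot⟩ := h
    obtain ⟨v, hv, rfl⟩ := V.E_mem he
    have := A_root V hC hj hn v hv
    rwa [hroot] at this
  · next rk' par s v k hget =>
    simp only [and_iff, Nat.blt_eq] at h
    obtain ⟨⟨⟨hpar, hrk⟩, hv⟩, h⟩ := h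
    split at h
    · next r hr =>
      rw [beq_iff'] at h
      obtain ⟨hrE, hrsim⟩ := sEv_val V hC hr
      obtain ⟨hkE, hkt⟩ := kev_spec V hC.els k
      obtain ⟨hvE, hvm⟩ := V.tr_mem hv
      obtain ⟨hTE, hTH⟩ := rT_mem V hC T
      obtain ⟨hpE, hpH⟩ := rT_mem V hC par
      have e1 := congrArg V.val h
      rw [V.val_mul hrE hpE, V.val_mul (hvE.mul hTE) hkE, V.val_mul hvE hTE] at e1
      have he' := (V.E_conj (V.val_mem hrE) (mul_mem he (inv_mem hvm))).2
      have hA := ih _ (by rw [← hT, hget]; exact hrk) par rfl hpar _ he'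
      have hA2 := V.A_right (inv_mem (V.val_mem hkE)) hkt.inv_left (V.A_left hrsim hA)
      have key : e * V.val (rT D C T) = V.val r * ((V.val r)⁻¹ * (e * (V.val (tr v))⁻¹) * V.val r *
          V.val (rT D C par)) * (V.val (ev D.k k))⁻¹ := by
        rw [mul_assoc _ (V.val r) (V.val (rT D C par)), e1]
        group
      rw [key]
      exact hA2
    · simp at h

theorem decomp {h : G} (hh : h ∈ V.H) (hfin : Finite P) : ∃ T < 3795, ∃ e ∈ V.E, ∃ k ∈ V.H,
    Commute k V.t ∧ h = e * V.val (rT D C T) * k := by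
  let X : Set G := {h | ∃ T < 3795, ∃ e ∈ V.E, ∃ k ∈ V.H,
    Commute k V.t ∧ h = e * V.val (rT D C T) * k}
  have h1 : (1 : G) ∈ X := ⟨0, by norm_num, 1, one_mem _, 1, one_mem _, Commute.one_left _, by
    rw [hC.rep, V.val_one]; simp⟩
  have hgen : ∀ g, g < 2 → ∀ z ∈ X, V.val (genCode g) * z ∈ X := by
    rintro g hg z ⟨T, hT, e, he, k, hk, hkt, rfl⟩
    have hm := hC.move (2 * T + g) (by omega)
    rw [okMove, show (2 * T + g) % 2 = g by omega, show (2 * T + g) / 2 = T by omega] at hm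
    simp only [and_iff, beq_iff', Nat.blt_eq] at hm
    obtain ⟨⟨hT', hv⟩, hm⟩ := hm
    have hgE : IsEl (genCode g) := ⟨_, code_genP g (by omega)⟩
    obtain ⟨hvE, hvm⟩ := V.tr_mem hv
    obtain ⟨hTE, hTH⟩ := rT_mem V hC T
    obtain ⟨hT'E, -⟩ := rT_mem V hC (C.move.get (2 * T + g)).1
    obtain ⟨hkE, hkt'⟩ := kev_spec V hC.els (C.move.get (2 * T + g)).2.2
    have e1 := congrArg V.val hm
    rw [V.val_mul hgE hTE, V.val_mul (hvE.mul hT'E) hkE, V.val_mul hvE hT'E] at e1
    refine ⟨_, hT', _, mul_mem (V.E_conj (V.val_mem hgE) he).1 hvm, _, mul_mem (V.val_mem hkE) hk,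
      hkt'.mul_left hkt, ?_⟩
    rw [eq_inv_mul_iff_mul_eq.2 e1]
    group
  have hpe : ∀ i, ∀ z ∈ X, V.φ (pe i) * z ∈ X := by
    rintro i z ⟨T, hT, e, he, k, hk, hkt, rfl⟩
    exact ⟨T, hT, _, mul_mem ⟨pe i, pe_mem i, rfl⟩ he, k, hk, hkt, by simp [mul_assoc]⟩
  obtain ⟨p, rfl⟩ := hh
  have key : ∀ z ∈ X, V.φ p * z ∈ X := by
    have hp : p ∈ Submonoid.closure ({px, py} ∪ Set.range pe) := by
      rw [← Subgroup.closure_toSubmonoid_of_finite, closure_gens]
      exact Subgroup.mem_top p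
    induction hp using Submonoid.closure_induction with
    | mem z hz =>
      rcases hz with (rfl | rfl) | ⟨i, rfl⟩
      · rw [← V.val_eq code_x]; exact hgen 0 (by norm_num)
      · rw [← V.val_eq code_y]; exact hgen 1 (by norm_num)
      · exact hpe i
    | one => intro z hz; simpa using hz
    | mul a b _ _ ha hb => intro z hz; rw [map_mul, mul_assoc]; exact ha _ (hb z hz)
  have := key 1 h1
  rwa [mul_one] at this

theorem U_invariant (hfin : Finite P) {x : V.Pts} (hx : x ∈ V.U D C.orbs.length) :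
    V.t • x ∈ V.U D C.orbs.length := by
  obtain ⟨j, hj, h, hh, rfl⟩ := hx
  obtain ⟨T, hT, e, he, k, hk, hkt, hdec⟩ := decomp V hC (inv_mem hh) hfin
  have := V.A_right hk hkt (A_trio V hC hj T hT e he)
  rw [← hdec, Env.A, inv_inv] at this
  exact this

/-- Every coset is reached. -/
theorem U_univ (hfin : Finite P) (hgen : V.H ⊔ Subgroup.zpowers V.t = ⊤) (x : V.Pts) :
    x ∈ V.U D C.orbs.length := by
  have key : ∀ g : G, ∀ y ∈ V.U D C.orbs.length,
      g • y ∈ V.U D C.orbs.length ∧ g⁻¹ • y ∈ V.U D C.orbs.length := by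
    intro g
    have hg : g ∈ Subgroup.closure ((V.H : Set G) ∪ {V.t}) := by
      rw [Subgroup.closure_union, Subgroup.closure_eq, ← Subgroup.zpowers_eq_closure, hgen]
      exact Subgroup.mem_top g
    induction hg using Subgroup.closure_induction with
    | mem z hz =>
      intro y hy
      rcases hz with hz | hz
      · exact ⟨V.U_smul hz hy, V.U_smul (inv_mem hz) hy⟩
      · rw [Set.mem_singleton_iff.1 hz, inv_eq_of_mul_eq_one_right V.t_sq]
        exact ⟨U_invariant V hC hfin hy, U_invariant V hC hfin hy⟩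
    | one => intro y hy; simp [hy]
    | mul a b _ _ ha hb =>
      intro y hy
      rw [mul_inv_rev, mul_smul, mul_smul]
      exact ⟨(ha _ (hb y hy).1).1, (hb _ (ha y hy).2).2⟩
    | inv a _ ha => intro y hy; rw [inv_inv]; exact ⟨(ha y hy).2, (ha y hy).1⟩
  obtain ⟨g, rfl⟩ := QuotientGroup.mk_surjective x
  have h0 : ((1 : G) : V.Pts) ∈ V.U D C.orbs.length := by
    refine ⟨0, hC.len, 1, one_mem _, ?_⟩
    rw [one_smul, Env.pt, w_zero, inv_one]
  simpa using (key g _ h0).1

/-- The size of an orbit. -/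
theorem orb_card (hP : Finite P) (hcard : Nat.card P = 501397585920) {j : ℕ} (hj : j < C.orbs.length) :
    (V.orb D j).Finite ∧ (V.orb D j).ncard ≤ (C.orb j).size := by
  let S : Subgroup P := (MulAction.stabilizer G (V.pt D j)).comap V.φ
  have hsel : ∀ n, ∃ p ∈ S, Code p (sC C j n) := by
    intro n
    rw [sC]
    rcases Nat.lt_or_ge n (C.orb j).selN with hn | hn
    swap
    · rw [Nat.ble_eq_true_of_le hn, cond_true]
      exact ⟨1, one_mem _, Code.one'⟩
    rw [show Nat.ble (C.orb j).selN n = false from Bool.eq_false_iff.2 fun h => by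
      have := Nat.le_of_ble_eq_true h; omega, cond_false]
    induction n using Nat.strong_induction_on with
    | _ n ih =>
    have h := hC.sel j hj n hn
    rw [okSel] at h
    cases hb : Nat.ble (C.orb j).selG n <;> rw [hb] at h
    · rw [cond_false, and_iff] at h
      obtain ⟨ha, h⟩ := h
      split at h
      · next i s hf =>
        simp only [and_iff, beq_iff'] at h
        obtain ⟨rfl, rfl⟩ := h
        have hv := val_facts V hC _ (Nat.blt_eq.mp ha)
        rw [hf] at hv
        obtain ⟨⟨p, hp⟩, hsim⟩ := hv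
        refine ⟨p, ?_, hp⟩
        show V.φ p • _ = _
        rw [← V.val_eq hp]
        exact V.pt_fix hsim
      · simp at h
    · simp only [cond_true, and_iff, beq_iff', Nat.blt_eq] at h
      obtain ⟨⟨ha, hb'⟩, he⟩ := h
      obtain ⟨p, hp, hpc⟩ := ih _ ha (ha.trans hn)
      obtain ⟨q, hq, hqc⟩ := ih _ hb' (hb'.trans hn)
      rw [he]
      exact ⟨p * q, mul_mem hp hq, hpc.mul hqc⟩
  have hlow : chainProd (C.orb j).levels ≤ Nat.card (S.map rho) :=
    chain_le (sC C j) _ _ (hC.chain j hj) fun p _ n _ => by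
      obtain ⟨q, hq, hqc⟩ := hsel n
      exact ⟨rho q, ⟨q, hq, rfl⟩, hqc⟩
  have hlow' : chainProd (C.orb j).levels ≤ Nat.card S := hlow.trans
    (Nat.card_le_card_of_surjective (fun s : S => (⟨rho s.1, s.1, s.2, rfl⟩ : S.map rho))
      fun ⟨_, q, hq, rfl⟩ => ⟨⟨q, hq⟩, rfl⟩)
  let f : P ⧸ S → V.Pts := Quotient.lift (fun p => V.φ p • V.pt D j) fun a b hab => by
    have hab' : a⁻¹ * b ∈ S := QuotientGroup.leftRel_apply.1 hab
    have hfix : V.φ (a⁻¹ * b) • V.pt D j = V.pt D j := hab'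
    rw [map_mul, map_inv, mul_smul, inv_smul_eq_iff] at hfix
    exact hfix.symm
  have hrange : V.orb D j = Set.range f := by
    ext x; constructor
    · rintro ⟨h, ⟨p, rfl⟩, rfl⟩; exact ⟨(p : P ⧸ S), rfl⟩
    · rintro ⟨q, rfl⟩
      induction q using QuotientGroup.induction_on with
      | _ p => exact ⟨V.φ p, ⟨p, rfl⟩, rfl⟩
  rw [hrange]
  refine ⟨Set.finite_range f, ?_⟩
  have hq : (Set.range f).ncard ≤ Nat.card (P ⧸ S) := by
    rw [← Nat.card_coe_set_eq]; exact Finite.card_range_le f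
  refine hq.trans ?_
  have hSz := hC.size j hj
  have hm := Subgroup.card_eq_card_quotient_mul_card_subgroup S
  rw [hcard, ← hSz] at hm
  by_contra hlt
  rw [not_le] at hlt
  have hpos : 0 < chainProd (C.orb j).levels :=
    Nat.pos_of_ne_zero fun h0 => by rw [h0, Nat.zero_mul] at hSz; simp at hSz
  have h1 : chainProd (C.orb j).levels * (C.orb j).size < chainProd (C.orb j).levels * Nat.card (P ⧸ S) :=
    Nat.mul_lt_mul_of_pos_left hlt hpos
  have h2 : chainProd (C.orb j).levels * Nat.card (P ⧸ S) ≤ Nat.card (P ⧸ S) * Nat.card S := by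
    rw [Nat.mul_comm]; exact Nat.mul_le_mul_left _ hlow'
  omega

end Cfsg.Agent.Lib.J4Dce59

namespace Cfsg.Agent.Lib.J4Dce59

universe v

variable {G : Type v} [Group G] (V : Env G) {D : Deriv} {C : Cov} (hC : CovOK D C)
include hC

/-- The coset space is finite, and is no larger than the orbit sizes add up to. -/
theorem index_le (hP : Finite P) (hcard : Nat.card P = 501397585920)
    (hgen : V.H ⊔ Subgroup.zpowers V.t = ⊤) :
    Finite V.Pts ∧ Nat.card V.Pts ≤ ∑ j ∈ Finset.range C.orbs.length, (C.orb j).size := by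
  classical
  have hU : (Set.univ : Set V.Pts) = ⋃ j ∈ Finset.range C.orbs.length, V.orb D j := by
    ext x
    obtain ⟨j, hj, hx⟩ := U_univ V hC hP hgen x
    simp only [Set.mem_univ, Set.mem_iUnion, true_iff]
    exact ⟨j, Finset.mem_range.2 hj, hx⟩
  have hfin : (⋃ j ∈ Finset.range C.orbs.length, V.orb D j).Finite :=
    Set.Finite.biUnion (Finset.finite_toSet _) fun j hj =>
      (orb_card V hC hP hcard (Finset.mem_range.1 hj)).1
  have hf : Finite V.Pts := Set.finite_univ_iff.1 (hU ▸ hfin)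
  refine ⟨hf, ?_⟩
  rw [← Set.ncard_univ, hU]
  refine (Finset.set_ncard_biUnion_le _ _).trans (Finset.sum_le_sum fun j hj => ?_)
  exact (orb_card V hC hP hcard (Finset.mem_range.1 hj)).2

end Cfsg.Agent.Lib.J4Dce59
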