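import Cfsg.Agent.Lib.J4Dce59.FaithfulTables

/-!
# Normal subgroups of the model
-/

set_option autoImplicit false
set_option maxRecDepth 20000

namespace Cfsg.Agent.Lib.J4Dce59

/-- A normal subgroup without the translation `934` meets the translations trivially. -/
theorem inf_E_trivial (hinj : Function.Injective rho) (N : Subgroup P) [hN : N.Normal]
    (hu : ∀ p, Code p (tr 934) → p ∉ N) : ∀ p ∈ N, p ∈ Epart → p = 1 := by
  have key : ∀ v, v < 2048 → v ≠ 0 → ∀ p ∈ N, ¬ Code p (tr v) := by
    intro v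
    induction hv : (Data.irr.get v).1 using Nat.strong_induction_on generalizing v with
    | _ rk ih =>
    intro hlt h0 p hp hc
    have h := okIrrEntry_spec Data.irr.get v (List.all_eq_true.1 okIrr_all v (List.mem_range.2 hlt))
    rcases h with h | h | ⟨hw, hop, hrk, hw0, htr⟩
    · exact h0 h
    · exact hu p (h ▸ hc) hp
    have step := ih _ (hv ▸ hrk) _ rfl hw hw0
    have cx : Code (px⁻¹ * p * px) (mm (mm MX (tr v)) MX) := (code_px_inv.mul hc).mul code_x
    have cy : Code (py⁻¹ * p * py) (mm (mm (mm MY MY) (tr v)) MY) := (code_py_inv.mul hc).mul code_y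
    rw [htr] at step
    unfold irrTarget at step
    obtain ⟨e0, e1, e2, e3⟩ := pick4_eq (mm (mm MX (tr v)) MX) (mm (mm (mm MY MY) (tr v)) MY)
      (mm (tr v) (mm (mm MX (tr v)) MX)) (mm (tr v) (mm (mm (mm MY MY) (tr v)) MY))
    generalize (Data.irr.get v).2.1 = op at hop step
    rcases op with _ | _ | _ | _ | op
    · rw [e0] at step; exact step _ (hN.conj_mem' p hp px) cx
    · rw [e1] at step; exact step _ (hN.conj_mem' p hp py) cy
    · rw [e2] at step; exact step _ (mul_mem hp (hN.conj_mem' p hp px)) (hc.mul cx)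
    · rw [e3] at step; exact step _ (mul_mem hp (hN.conj_mem' p hp py)) (hc.mul cy)
    · omega
  intro p hp hE
  obtain ⟨S, -, hmem, hf, -⟩ := Epart_spec
  obtain ⟨v, hv, hc⟩ := hf p ((hmem p).2 hE)
  by_cases h0 : v = 0
  · subst h0
    rw [tr_zero] at hc
    exact Code.eq_of hinj hc Code.one'
  · exact absurd hc (key v hv h0 p hp)

/-- Such a subgroup is trivial. -/
theorem normal_trivial (hinj : Function.Injective rho) (hfin : Finite P) (N : Subgroup P) [hN : N.Normal]
    (hu : ∀ p, Code p (tr 934) → p ∉ N) : N = ⊥ := by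
  rw [eq_bot_iff]
  intro p hp
  refine inf_E_trivial hinj N hu p hp (centralizer_E hinj hfin p fun e he => ?_)
  have h1 : e * p * e⁻¹ * p⁻¹ ∈ N := mul_mem (hN.conj_mem p hp e) (inv_mem hp)
  have h2 : e * p * e⁻¹ * p⁻¹ ∈ Epart := by
    rw [mul_assoc e p, mul_assoc e]
    exact mul_mem he (Epart_normal.conj_mem _ (inv_mem he) p)
  have := inf_E_trivial hinj N hu _ h1 h2
  rwa [mul_inv_eq_one, mul_inv_eq_iff_eq_mul] at this

end Cfsg.Agent.Lib.J4Dce59
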