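import Cfsg.Agent.Lib.J4Dce59.Inj
import Cfsg.Agent.Lib.J4Dce59.Data.Irr

/-!
# The translations are irreducible and self-centralising
-/

set_option autoImplicit false
set_option maxRecDepth 20000

namespace Cfsg.Agent.Lib.J4Dce59

/-- The matrix preserves the top coordinate. -/
def Top (A : ℕ) : Prop := ∀ r, r < 4096 → ap r A / 2048 = r / 2048

theorem Top.mul {A B : ℕ} (hA : Top A) (hB : Top B) : Top (mm A B) := fun r hr => by
  rw [ap_mm, hB _ (ap_lt _ _), hA r hr]

theorem top_check : ((List.range 13).all fun g => (List.range 4096).all fun r =>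
    Nat.beq (ap r (genCode g) / 2048) (r / 2048)) = true := by decide +kernel

theorem exists_code_top (hfin : Finite P) (p : P) : ∃ A, Code p A ∧ Top A := by
  have hp : p ∈ Submonoid.closure ({px, py} ∪ Set.range pe) := by
    rw [← Subgroup.closure_toSubmonoid_of_finite, closure_gens]
    exact Subgroup.mem_top p
  have hg : ∀ g, g < 13 → Top (genCode g) := fun g hg r hr => beq_iff'.1
    (List.all_eq_true.1 (List.all_eq_true.1 top_check g (List.mem_range.2 hg)) r (List.mem_range.2 hr))
  induction hp using Submonoid.closure_induction with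
  | mem z hz =>
    rcases hz with (rfl | rfl) | ⟨i, rfl⟩
    · exact ⟨MX, code_x, hg 0 (by norm_num)⟩
    · exact ⟨MY, code_y, hg 1 (by norm_num)⟩
    · exact ⟨_, code_e i, hg (i + 2) (by omega)⟩
  | one => exact ⟨one, Code.one', fun r hr => by rw [ap_one hr]⟩
  | mul a b _ _ ha hb =>
    obtain ⟨A, hA, tA⟩ := ha
    obtain ⟨B, hB, tB⟩ := hb
    exact ⟨_, hA.mul hB, tA.mul tB⟩

theorem tr_pow_check : ((List.range 11).all fun i => (List.range 4096).all fun r =>
    Nat.beq (ap r (tr (2 ^ i))) (r ^^^ (r / 2048 * 2 ^ i))) = true := by decide +kernel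

theorem basis_check : ((List.range 2048).all fun w => (List.range 12).all fun k =>
    Nat.beq (ap (2 ^ k) (tr w)) (cond (Nat.beq k 11) (2048 + w) (2 ^ k))) = true := by decide +kernel

theorem ap_ext {A B : ℕ} (h : ∀ k, k < 12 → ap (2 ^ k) A = ap (2 ^ k) B) :
    ∀ n, n ≤ 12 → ∀ r, r < 2 ^ n → ap r A = ap r B
  | 0, _, r, hr => by
    obtain rfl : r = 0 := by simpa using hr
    rw [ap_zero, ap_zero]
  | n + 1, hn, r, hr => by
    rcases Nat.lt_or_ge r (2 ^ n) with hlt | hge
    · exact ap_ext h n (by omega) r hlt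
    · rw [pow_succ] at hr
      have hr' : r - 2 ^ n < 2 ^ n := by omega
      have e : r = (r - 2 ^ n) ^^^ 2 ^ n := by
        apply Nat.eq_of_testBit_eq
        intro i
        conv_lhs => rw [show r = 2 ^ n * 1 + (r - 2 ^ n) by omega]
        rw [Nat.testBit_two_pow_mul_add 1 hr', Nat.testBit_xor, Nat.testBit_two_pow]
        rcases Nat.lt_trichotomy i n with hi | hi | hi
        · rw [if_pos hi, decide_eq_false (by omega), Bool.xor_false]
        · subst hi
          rw [if_neg (lt_irrefl _), Nat.sub_self, Nat.testBit_eq_false_of_lt hr']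
          simp
        · rw [if_neg (by omega), Nat.testBit_eq_false_of_lt
            (lt_of_lt_of_le hr' (Nat.pow_le_pow_right two_pos hi.le)), decide_eq_false (by omega)]
          have : Nat.testBit 1 (i - n) = false := Nat.testBit_eq_false_of_lt
            (Nat.one_lt_two_pow (by omega))
          rw [this]; rfl
      rw [e, ap_xor, ap_xor, h n (by omega), ap_ext h n (by omega) _ hr']

theorem centralizer_E (hinj : Function.Injective rho) (hfin : Finite P) (p : P)
    (hp : ∀ e ∈ Epart, e * p = p * e) : p ∈ Epart := by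
  obtain ⟨A, hA, hT⟩ := exists_code_top hfin p
  have ha := hT 2048 (by norm_num)
  have hlt := ap_lt 2048 A
  obtain ⟨S, -, hmem, -, hb⟩ := Epart_spec
  have hw : ap 2048 A - 2048 < 2048 := by omega
  obtain ⟨q, hq, hqc⟩ := hb _ hw
  have hfix : ∀ i, i < 11 → ap (2 ^ i) A = 2 ^ i := by
    intro i hi
    have hk : ∀ r, r < 4096 → ap r (tr (2 ^ i)) = r ^^^ (r / 2048 * 2 ^ i) := fun r hr => beq_iff'.1
      (List.all_eq_true.1 (List.all_eq_true.1 tr_pow_check i (List.mem_range.2 hi)) r (List.mem_range.2 hr))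
    have hc := hp (pe ⟨i, hi⟩) (pe_mem _)
    have h1 := (code_e ⟨i, hi⟩).mul hA
    rw [hc] at h1
    have h2 : ap 2048 (mm (tr (2 ^ i)) A) = ap 2048 (mm A (tr (2 ^ i))) :=
      ((h1 ⟨2048, by norm_num⟩).symm.trans ((hA.mul (code_e ⟨i, hi⟩)) ⟨2048, by norm_num⟩))
    rw [ap_mm, ap_mm, hk 2048 (by norm_num), hk _ hlt, ha, ap_xor] at h2
    norm_num at h2
    exact h2
  have heq : ∀ r, r < 4096 → ap r A = ap r (tr (ap 2048 A - 2048)) :=
    ap_ext (fun k hk => by
      have hb := beq_iff'.1 (List.all_eq_true.1 (List.all_eq_true.1 basis_check _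
        (List.mem_range.2 hw)) k (List.mem_range.2 hk))
      rw [hb]
      rcases Nat.lt_or_ge k 11 with h11 | h11
      · rw [show Nat.beq k 11 = false from Bool.eq_false_iff.2 fun h => by
          have := Nat.eq_of_beq_eq_true h; omega, cond_false, hfix k h11]
      · obtain rfl : k = 11 := by omega
        rw [show Nat.beq 11 11 = true from rfl, cond_true]
        norm_num
        omega) 12 le_rfl
  have : p = q := hinj (Equiv.symm_bijective.injective (Equiv.ext fun r => Fin.ext (by
    rw [hA r, heq r r.2, ← hqc r])))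
  rw [this]
  exact (hmem q).1 hq

/-- One of four things, by index. -/
def pick4 {α : Type} (a b c d : α) : ℕ → α
  | 0 => a
  | 1 => b
  | 2 => c
  | _ => d

theorem pick4_eq {α : Type} (a b c d : α) :
    pick4 a b c d 0 = a ∧ pick4 a b c d 1 = b ∧ pick4 a b c d 2 = c ∧ pick4 a b c d 3 = d :=
  ⟨rfl, rfl, rfl, rfl⟩

/-- The product named by the operation `op` on translation `v`. -/
def irrTarget (v : ℕ) (op : ℕ) : ℕ :=
  pick4 (mm (mm MX (tr v)) MX) (mm (mm (mm MY MY) (tr v)) MY) (mm (tr v) (mm (mm MX (tr v)) MX))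
    (mm (tr v) (mm (mm (mm MY MY) (tr v)) MY)) op

/-- The check of one entry of the table. -/
def okIrrEntry (g : ℕ → ℕ × ℕ × ℕ) (v : ℕ) : Bool :=
  Nat.beq v 0 || Nat.beq (g v).2.1 4 && Nat.beq v 934 ||
    Nat.blt (g v).2.2 2048 && Nat.blt (g v).2.1 4 && Nat.blt (g (g v).2.2).1 (g v).1 &&
      !Nat.beq (g v).2.2 0 && Nat.beq (tr (g v).2.2) (irrTarget v (g v).2.1)

theorem okIrrEntry_spec (g : ℕ → ℕ × ℕ × ℕ) (v : ℕ) (h : okIrrEntry g v = true) :
    v = 0 ∨ v = 934 ∨ ((g v).2.2 < 2048 ∧ (g v).2.1 < 4 ∧ (g (g v).2.2).1 < (g v).1 ∧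
      (g v).2.2 ≠ 0 ∧ tr (g v).2.2 = irrTarget v (g v).2.1) := by
  unfold okIrrEntry at h
  rw [Bool.or_eq_true, Bool.or_eq_true, and_iff, and_iff, and_iff, and_iff, and_iff, beq_iff', beq_iff',
    beq_iff', Nat.blt_eq, Nat.blt_eq, Nat.blt_eq, beq_iff'] at h
  rcases h with (h | h) | h
  · exact Or.inl h
  · exact Or.inr (Or.inl h.2)
  · exact Or.inr (Or.inr ⟨h.1.1.1.1, h.1.1.1.2, h.1.1.2, fun e => by
      have h' := h.1.2; rw [e] at h'; exact Bool.noConfusion h', h.2⟩)

/-- The check of the table for translation `v`. -/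
noncomputable def okIrr (v : ℕ) : Bool := okIrrEntry Data.irr.get v

theorem okIrr_all : (List.range 2048).all okIrr = true := by decide +kernel

theorem code_px_inv : Code px⁻¹ MX := by
  rw [inv_eq_of_mul_eq_one_right (show px * px = 1 by rw [← pow_two]; exact hRel_P.m24.1)]
  exact code_x

theorem code_py_inv : Code py⁻¹ (mm MY MY) := by
  rw [inv_eq_of_mul_eq_one_right (show py * (py * py) = 1 by
    have h := hRel_P.m24.2.1; rw [pow_succ, pow_two, mul_assoc] at h; exact h)]
  exact code_y.mul code_y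

end Cfsg.Agent.Lib.J4Dce59
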