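import Cfsg.Agent.Lib.J4Dce59.Kernel

/-!
# The model of `2^11:M24` by affine matrices, and its presentation
-/

set_option autoImplicit false
set_option maxRecDepth 20000

namespace Cfsg.Agent.Lib.J4Dce59

/-- The images of the basis under `x` and under `y`. -/
def mxRows : List ℕ := [12, 516, 4, 5, 1179, 1767, 587, 990, 1933, 6, 1368]

def myRows : List ℕ := [1394, 495, 489, 485, 509, 567, 461, 492, 1226, 1201, 1517]

def MX : ℕ := 11152190985263823847931674234978491437170700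

def MY : ℕ := 11152389427978843478001757960855673741702514

/-- The translation by `v`. -/
def tr (v : ℕ) : ℕ := one + v * 4096 ^ 11

/-- The seven relations of `M24` for a pair of elements. -/
def M24Rel {G : Type*} [Group G] (x y : G) : Prop :=
  x ^ 2 = 1 ∧ y ^ 3 = 1 ∧ (x * y) ^ 23 = 1 ∧ (x⁻¹ * y⁻¹ * x * y) ^ 12 = 1 ∧
    (x⁻¹ * (y * x * y)⁻¹ * x * (y * x * y)) ^ 5 = 1 ∧
    (x * y * ((x * y * x * y⁻¹) ^ 3)) ^ 4 = 1 ∧
    ((x * y * x * y * x * y⁻¹) ^ 3) * ((x * y * x * y⁻¹ * x * y⁻¹) ^ 3) = 1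

/-- The order bound for groups generated by a pair satisfying the relations of `M24`. -/
def M24Bound : Prop := ∀ {G : Type} [Group G] (x y : G), M24Rel x y →
  Finite (Subgroup.closure ({x, y} : Set G)) ∧
    Nat.card (Subgroup.closure ({x, y} : Set G)) ≤ 244823040

/-- The product of the `e i` over the bits of `v`. -/
def bitsProd {M : Type*} [Monoid M] (e : Fin 11 → M) (v : ℕ) : M :=
  (((List.finRange 11).filter fun i : Fin 11 => v.testBit i).map e).prod

/-- The relations of the whole group. -/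
structure HRel {G : Type*} [Group G] (x y : G) (e : Fin 11 → G) : Prop where
  m24 : M24Rel x y
  sq : ∀ i, e i * e i = 1
  comm : ∀ i j, e i * e j = e j * e i
  conj_x : ∀ i : Fin 11, x⁻¹ * e i * x = bitsProd e (mxRows.getD i 0)
  conj_y : ∀ i : Fin 11, y⁻¹ * e i * y = bitsProd e (myRows.getD i 0)

/-- The generators: `x`, `y` and the eleven translations. -/
inductive Gen
  | x
  | y
  | e (i : Fin 11)

abbrev FX : FreeGroup Gen := FreeGroup.of Gen.x

abbrev FY : FreeGroup Gen := FreeGroup.of Gen.y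

abbrev FE (i : Fin 11) : FreeGroup Gen := FreeGroup.of (Gen.e i)

/-- The relators. -/
def rels : Set (FreeGroup Gen) :=
  {FX ^ 2, FY ^ 3, (FX * FY) ^ 23, (FX⁻¹ * FY⁻¹ * FX * FY) ^ 12,
    (FX⁻¹ * (FY * FX * FY)⁻¹ * FX * (FY * FX * FY)) ^ 5,
    (FX * FY * ((FX * FY * FX * FY⁻¹) ^ 3)) ^ 4,
    ((FX * FY * FX * FY * FX * FY⁻¹) ^ 3) * ((FX * FY * FX * FY⁻¹ * FX * FY⁻¹) ^ 3)} ∪
  Set.range (fun i => FE i * FE i) ∪
  Set.range (fun ij : Fin 11 × Fin 11 => FE ij.1 * FE ij.2 * (FE ij.2 * FE ij.1)⁻¹) ∪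
  Set.range (fun i : Fin 11 => FX⁻¹ * FE i * FX * (bitsProd FE (mxRows.getD i 0))⁻¹) ∪
  Set.range (fun i : Fin 11 => FY⁻¹ * FE i * FY * (bitsProd FE (myRows.getD i 0))⁻¹)

abbrev P : Type := PresentedGroup rels

abbrev px : P := PresentedGroup.of Gen.x

abbrev py : P := PresentedGroup.of Gen.y

abbrev pe (i : Fin 11) : P := PresentedGroup.of (Gen.e i)

theorem map_bitsProd {M N : Type*} [Monoid M] [Monoid N] (f : M →* N) (e : Fin 11 → M) (v : ℕ) :
    f (bitsProd e v) = bitsProd (fun i => f (e i)) v := by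
  rw [bitsProd, bitsProd, map_list_prod, List.map_map]
  rfl

theorem hRel_P : HRel px py pe := by
  have h : ∀ r ∈ rels, PresentedGroup.mk rels r = 1 := fun r hr => PresentedGroup.mk_eq_one_iff.2
    (Subgroup.subset_normalClosure hr)
  have hb : ∀ v, PresentedGroup.mk rels (bitsProd FE v) = bitsProd pe v := fun v => map_bitsProd _ _ v
  refine ⟨⟨?_, ?_, ?_, ?_, ?_, ?_, ?_⟩, fun i => ?_, fun i j => ?_, fun i => ?_, fun i => ?_⟩
  iterate 7 exact (h _ (by simp [rels]))
  · exact h _ (Or.inl (Or.inl (Or.inl (Or.inr ⟨i, rfl⟩))))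
  · have := h _ (Or.inl (Or.inl (Or.inr ⟨(i, j), rfl⟩)))
    rw [map_mul, map_inv, mul_inv_eq_one] at this
    exact this
  · have := h _ (Or.inl (Or.inr ⟨i, rfl⟩))
    rw [map_mul, map_inv, mul_inv_eq_one, hb] at this
    exact this
  · have := h _ (Or.inr ⟨i, rfl⟩)
    rw [map_mul, map_inv, mul_inv_eq_one, hb] at this
    exact this

/-- A homomorphism from the model to a group in which the relations hold. -/
theorem exists_hom {G : Type*} [Group G] {x y : G} {e : Fin 11 → G} (h : HRel x y e) :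
    ∃ φ : P →* G, φ px = x ∧ φ py = y ∧ ∀ i, φ (pe i) = e i := by
  let f : Gen → G := fun
    | .x => x
    | .y => y
    | .e i => e i
  have hb : ∀ v, FreeGroup.lift f (bitsProd FE v) = bitsProd e v := fun v => by
    rw [map_bitsProd]; simp [f]
  have hr : ∀ r ∈ rels, FreeGroup.lift f r = 1 := by
    obtain ⟨⟨h1, h2, h3, h4, h5, h6, h7⟩, hs, hc, hx, hy⟩ := h
    rintro r ((((hr | ⟨i, rfl⟩) | ⟨⟨i, j⟩, rfl⟩) | ⟨i, rfl⟩) | ⟨i, rfl⟩)
    · simp only [Set.mem_insert_iff, Set.mem_singleton_iff] at hr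
      rcases hr with rfl | rfl | rfl | rfl | rfl | rfl | rfl <;>
        simp only [map_mul, map_pow, map_inv, FreeGroup.lift_apply_of, f] <;> assumption
    · simp [f, hs]
    · simp only [map_mul, map_inv, FreeGroup.lift_apply_of, f, mul_inv_eq_one]; exact hc i j
    · simp only [map_mul, map_inv, FreeGroup.lift_apply_of, hb, f, mul_inv_eq_one]; exact hx i
    · simp only [map_mul, map_inv, FreeGroup.lift_apply_of, hb, f, mul_inv_eq_one]; exact hy i
  exact ⟨PresentedGroup.toGroup hr, PresentedGroup.toGroup.of hr, PresentedGroup.toGroup.of hr,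
    fun i => PresentedGroup.toGroup.of hr⟩

/-- `A` is the matrix of the inverse of the permutation `σ`. -/
def Cd (σ : Equiv.Perm (Fin 4096)) (A : ℕ) : Prop := ∀ r : Fin 4096, (σ.symm r : ℕ) = ap r A

theorem Cd.mul {σ τ : Equiv.Perm (Fin 4096)} {A B : ℕ} (hA : Cd σ A) (hB : Cd τ B) :
    Cd (σ * τ) (mm A B) := fun r => by
  show (τ.symm (σ.symm r) : ℕ) = _
  rw [hB, hA, ap_mm]

theorem Cd.one' : Cd 1 one := fun r => by
  rw [ap_one r.2]
  rfl

theorem Cd.eq_one {σ : Equiv.Perm (Fin 4096)} {A : ℕ} (hA : Cd σ A) (h : A = one) : σ = 1 := by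
  refine Equiv.ext fun r => ?_
  have := hA (σ r)
  rw [h, ap_one (σ r).2, Equiv.symm_apply_apply] at this
  exact (Fin.ext this).symm

theorem Cd.eq {σ τ : Equiv.Perm (Fin 4096)} {A : ℕ} (hA : Cd σ A) (hB : Cd τ A) : σ = τ :=
  Equiv.symm_bijective.injective (Equiv.ext fun r => Fin.ext ((hA r).trans (hB r).symm))

/-- Powers of a code. -/
def mpow (A : ℕ) : ℕ → ℕ
  | 0 => one
  | n + 1 => mm (mpow A n) A

theorem Cd.pow {σ : Equiv.Perm (Fin 4096)} {A : ℕ} (hA : Cd σ A) : ∀ n, Cd (σ ^ n) (mpow A n)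
  | 0 => by rw [pow_zero]; exact Cd.one'
  | n + 1 => by rw [pow_succ]; exact (Cd.pow hA n).mul hA

/-- The permutation with code `A`, given a code of its inverse. -/
def permOf (A B : ℕ) (h : mm A B = one ∧ mm B A = one) : Equiv.Perm (Fin 4096) where
  toFun r := ⟨ap r B, ap_lt _ _⟩
  invFun r := ⟨ap r A, ap_lt _ _⟩
  left_inv r := Fin.ext (by show ap (ap _ B) A = _; rw [← ap_mm, h.2, ap_one r.2])
  right_inv r := Fin.ext (by show ap (ap _ A) B = _; rw [← ap_mm, h.1, ap_one r.2])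

theorem cd_permOf (A B : ℕ) (h : mm A B = one ∧ mm B A = one) : Cd (permOf A B h) A := fun _ => rfl

theorem cd_permOf_inv (A B : ℕ) (h : mm A B = one ∧ mm B A = one) : Cd (permOf A B h)⁻¹ B :=
  fun _ => rfl

def sx : Equiv.Perm (Fin 4096) := permOf MX MX (by decide +kernel)

def sy : Equiv.Perm (Fin 4096) := permOf MY (mm MY MY) (by decide +kernel)

theorem tr_check (i : Fin 11) : mm (tr (2 ^ (i : ℕ))) (tr (2 ^ (i : ℕ))) = one := by
  revert i; decide +kernel

def se (i : Fin 11) : Equiv.Perm (Fin 4096) :=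
  permOf (tr (2 ^ (i : ℕ))) (tr (2 ^ (i : ℕ))) ⟨tr_check i, tr_check i⟩

theorem cd_bits {f : Fin 11 → Equiv.Perm (Fin 4096)} (hf : ∀ i, Cd (f i) (tr (2 ^ (i : ℕ)))) :
    ∀ l : List (Fin 11), Cd (l.map f).prod (l.foldr (fun (i : Fin 11) A => mm (tr (2 ^ (i : ℕ))) A) one)
  | [] => by rw [List.map_nil, List.prod_nil]; exact Cd.one'
  | i :: l => by rw [List.map_cons, List.prod_cons, List.foldr_cons]; exact (hf i).mul (cd_bits hf l)

/-- The code of `bitsProd`. -/
def bitsCode (v : ℕ) : ℕ :=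
  ((List.finRange 11).filter fun i : Fin 11 => v.testBit i).foldr
    (fun (i : Fin 11) A => mm (tr (2 ^ (i : ℕ))) A) one

theorem hRel_perm : HRel sx sy se := by
  have hx : Cd sx MX := cd_permOf _ _ _
  have hxi : Cd sx⁻¹ MX := cd_permOf_inv MX MX _
  have hy : Cd sy MY := cd_permOf _ _ _
  have hyi : Cd sy⁻¹ (mm MY MY) := cd_permOf_inv MY _ _
  have he : ∀ i, Cd (se i) (tr (2 ^ (i : ℕ))) := fun i => cd_permOf _ _ _
  have hyxy : Cd (sy * sx * sy)⁻¹ (mm (mm (mm MY MY) MX) (mm MY MY)) := by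
    rw [mul_inv_rev, mul_inv_rev, ← mul_assoc]; exact (hyi.mul hxi).mul hyi
  refine ⟨⟨(hx.pow 2).eq_one ?_, (hy.pow 3).eq_one ?_, ((hx.mul hy).pow 23).eq_one ?_,
    ((((hxi.mul hyi).mul hx).mul hy).pow 12).eq_one ?_,
    ((((hxi.mul hyxy).mul hx).mul ((hy.mul hx).mul hy)).pow 5).eq_one ?_,
    (((hx.mul hy).mul ((((hx.mul hy).mul hx).mul hyi).pow 3)).pow 4).eq_one ?_,
    ((((((hx.mul hy).mul hx).mul hy).mul hx).mul hyi).pow 3 |>.mul
      ((((((hx.mul hy).mul hx).mul hyi).mul hx).mul hyi).pow 3)).eq_one ?_⟩,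
    fun i => ((he i).mul (he i)).eq_one (tr_check i), fun i j => ?_, fun i => ?_, fun i => ?_⟩
  iterate 7 decide +kernel
  · have h : mm (tr (2 ^ (i : ℕ))) (tr (2 ^ (j : ℕ))) = mm (tr (2 ^ (j : ℕ))) (tr (2 ^ (i : ℕ))) := by
      revert i j; decide +kernel
    refine ((he i).mul (he j)).eq ?_
    rw [h]
    exact (he j).mul (he i)
  · have h : mm (mm MX (tr (2 ^ (i : ℕ)))) MX = bitsCode (mxRows.getD i 0) := by
      revert i; decide +kernel
    refine ((hxi.mul (he i)).mul hx).eq ?_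
    rw [h]
    exact cd_bits he _
  · have h : mm (mm (mm MY MY) (tr (2 ^ (i : ℕ)))) MY = bitsCode (myRows.getD i 0) := by
      revert i; decide +kernel
    refine ((hyi.mul (he i)).mul hy).eq ?_
    rw [h]
    exact cd_bits he _

/-- The action of the model on the affine space. -/
noncomputable def rho : P →* Equiv.Perm (Fin 4096) := (exists_hom hRel_perm).choose

theorem rho_spec : rho px = sx ∧ rho py = sy ∧ ∀ i, rho (pe i) = se i :=
  (exists_hom hRel_perm).choose_spec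

/-- `A` is the code of the element `p` of the model. -/
def Code (p : P) (A : ℕ) : Prop := Cd (rho p) A

theorem Code.mul {p q : P} {A B : ℕ} (hp : Code p A) (hq : Code q B) : Code (p * q) (mm A B) := by
  unfold Code at *; rw [map_mul]; exact hp.mul hq

theorem Code.one' : Code 1 one := by unfold Code; rw [map_one]; exact Cd.one'

theorem code_x : Code px MX := by unfold Code; rw [rho_spec.1]; exact cd_permOf _ _ _

theorem code_y : Code py MY := by unfold Code; rw [rho_spec.2.1]; exact cd_permOf _ _ _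

theorem code_e (i : Fin 11) : Code (pe i) (tr (2 ^ (i : ℕ))) := by
  unfold Code; rw [rho_spec.2.2]; exact cd_permOf _ _ _

theorem Code.apply {p : P} {A : ℕ} (hp : Code p A) (r : Fin 4096) :
    ((rho p⁻¹) r : ℕ) = ap r A := by rw [map_inv]; exact hp r

end Cfsg.Agent.Lib.J4Dce59
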