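import Mathlib

/-!
# Twelve by twelve matrices over the field with two elements, packed in one number

Row `i` of a matrix is the block of bits `12 * i, ..., 12 * i + 11`; a row vector is a number below `4096`.
-/

set_option autoImplicit false

namespace Cfsg.Agent.Lib.J4Dce59

/-- `r` times the first `n` rows of `B`. -/
def apN : ℕ → ℕ → ℕ → ℕ
  | 0, _, _ => 0
  | n + 1, r, B => (r % 2 * (B % 4096)) ^^^ apN n (r / 2) (B / 4096)

/-- `r` times the matrix `B`. -/
def ap (r B : ℕ) : ℕ := apN 12 r B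

/-- The rows of `A` (at most `n`) times `B`, packed. -/
def rowsMul : ℕ → ℕ → ℕ → ℕ
  | 0, _, _ => 0
  | n + 1, A, B => ap (A % 4096) B + 4096 * rowsMul n (A / 4096) B

/-- A one at the foot of each of `n` blocks. -/
def col : ℕ → ℕ
  | 0 => 0
  | n + 1 => 1 + 4096 * col n

/-- The bit-parallel product with the first `m` rows of `B`. -/
def par : ℕ → ℕ → ℕ → ℕ → ℕ
  | 0, _, _, _ => 0
  | m + 1, c, A, B => ((A &&& c) * (B % 4096)) ^^^ par m c (A / 2) (B / 4096)

/-- The product of two matrices. -/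
def mm (A B : ℕ) : ℕ := par 12 5445847423328601499764522166702896582657 A B

theorem apN_lt : ∀ n r B, apN n r B < 4096
  | 0, _, _ => by simp [apN]
  | n + 1, r, B => by
    show (r % 2 * (B % 4096)) ^^^ apN n (r / 2) (B / 4096) < 2 ^ 12
    refine Nat.xor_lt_two_pow ?_ (apN_lt n _ _)
    rcases Nat.mod_two_eq_zero_or_one r with h | h <;> rw [h] <;>
      simp [Nat.mod_lt]

theorem ap_lt (r B : ℕ) : ap r B < 4096 := apN_lt _ _ _

theorem split_xor {u v : ℕ} (U V : ℕ) (hu : u < 4096) (hv : v < 4096) :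
    (u + 4096 * U) ^^^ (v + 4096 * V) = (u ^^^ v) + 4096 * (U ^^^ V) := by
  have h4 : (4096 : ℕ) = 2 ^ 12 := rfl
  apply Nat.eq_of_testBit_eq
  intro i
  rw [Nat.testBit_xor, h4, Nat.add_comm u, Nat.add_comm v, Nat.add_comm (u ^^^ v),
    Nat.testBit_two_pow_mul_add U hu, Nat.testBit_two_pow_mul_add V hv,
    Nat.testBit_two_pow_mul_add (U ^^^ V) (Nat.xor_lt_two_pow hu hv)]
  split_ifs <;> simp [Nat.testBit_xor]

theorem shift_and {a : ℕ} (A C j : ℕ) (ha : a < 4096) (hj : j < 12) :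
    ((a + 4096 * A) / 2 ^ j) &&& (1 + 4096 * C) = a / 2 ^ j % 2 + 4096 * ((A / 2 ^ j) &&& C) := by
  have h4 : (4096 : ℕ) = 2 ^ 12 := rfl
  have h2 : a / 2 ^ j % 2 < 2 ^ 12 := lt_of_lt_of_le (Nat.mod_lt _ two_pos) (by norm_num)
  apply Nat.eq_of_testBit_eq
  intro i
  rw [Nat.testBit_and, Nat.testBit_div_two_pow, h4, Nat.add_comm a, Nat.add_comm 1,
    Nat.add_comm (a / 2 ^ j % 2), Nat.testBit_two_pow_mul_add A ha,
    Nat.testBit_two_pow_mul_add C (show (1:ℕ) < 2 ^ 12 by norm_num),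
    Nat.testBit_two_pow_mul_add (A / 2 ^ j &&& C) h2]
  rcases Nat.lt_or_ge i 12 with hi | hi
  · rw [if_pos hi, if_pos hi]
    rcases i with _ | i
    · rw [if_pos (by omega)]
      simp [Nat.testBit_zero, Nat.testBit, Nat.shiftRight_eq_div_pow]
    · have : Nat.testBit 1 (i + 1) = false := by simp [Nat.testBit_succ]
      rw [this, Bool.and_false]
      symm
      refine Nat.testBit_eq_false_of_lt ?_
      calc a / 2 ^ j % 2 < 2 := Nat.mod_lt _ two_pos
        _ ≤ 2 ^ (i + 1) := by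
          rw [pow_succ]; have := Nat.one_le_two_pow (n := i); omega
  · rw [if_neg (by omega), if_neg (by omega), if_neg (by omega), Nat.testBit_and,
      Nat.testBit_div_two_pow]
    congr 2; omega

theorem par_shift (C : ℕ) {a : ℕ} (A : ℕ) (ha : a < 4096) : ∀ (m j B : ℕ), j + m ≤ 12 →
    par m (1 + 4096 * C) ((a + 4096 * A) / 2 ^ j) B =
      apN m (a / 2 ^ j) B + 4096 * par m C (A / 2 ^ j) B
  | 0, _, _, _ => by simp [par, apN]
  | m + 1, j, B, h => by
    have ih := par_shift C A ha m (j + 1) (B / 4096) (by omega)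
    show ((_ &&& _) * (B % 4096)) ^^^ par m _ (_ / 2) (B / 4096) =
      ((_ % 2 * (B % 4096)) ^^^ apN m (_ / 2) (B / 4096)) +
        4096 * (((_ &&& C) * (B % 4096)) ^^^ par m C (_ / 2) (B / 4096))
    simp only [Nat.div_div_eq_div_mul, ← pow_succ] at ih ⊢
    rw [ih, shift_and A C j ha (by omega), Nat.add_mul, Nat.mul_assoc]
    refine split_xor _ _ ?_ (apN_lt _ _ _)
    rcases Nat.mod_two_eq_zero_or_one (a / 2 ^ j) with e | e <;> rw [e] <;> simp [Nat.mod_lt]

theorem par_zero : ∀ (m A B : ℕ), par m 0 A B = 0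
  | 0, _, _ => rfl
  | m + 1, A, B => by
    show ((A &&& 0) * (B % 4096)) ^^^ par m 0 (A / 2) (B / 4096) = 0
    rw [par_zero m, Nat.and_zero, Nat.zero_mul]; rfl

theorem par_col : ∀ (n A B : ℕ), par 12 (col n) A B = rowsMul n A B
  | 0, A, B => par_zero _ _ _
  | n + 1, A, B => by
    have h := par_shift (col n) (A / 4096) (Nat.mod_lt A (by norm_num : 0 < 4096)) 12 0 B (by norm_num)
    rw [pow_zero, Nat.div_one, Nat.div_one, Nat.mod_add_div] at h
    rw [col, h, par_col n, Nat.div_one]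
    rfl

theorem mm_eq (A B : ℕ) : mm A B = rowsMul 12 A B := by
  rw [← par_col 12 A B]
  rfl

theorem apN_xor : ∀ (n a b B : ℕ), apN n (a ^^^ b) B = apN n a B ^^^ apN n b B
  | 0, _, _, _ => by simp [apN]
  | n + 1, a, b, B => by
    show ((a ^^^ b) % 2 * _) ^^^ apN n ((a ^^^ b) / 2) _ = _
    rw [Nat.xor_div_two, apN_xor n]
    show _ = ((a % 2 * _) ^^^ _) ^^^ ((b % 2 * _) ^^^ _)
    have hd : ∀ c, (a ^^^ b) % 2 * c = (a % 2 * c) ^^^ (b % 2 * c) := fun c => by
      rcases Nat.mod_two_eq_zero_or_one a with e | e <;>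
      rcases Nat.mod_two_eq_zero_or_one b with f | f <;>
      simp [Nat.add_mod, e, f]
    rw [hd]
    ac_rfl

theorem ap_xor (a b B : ℕ) : ap (a ^^^ b) B = ap a B ^^^ ap b B := apN_xor _ _ _ _

theorem ap_zero (B : ℕ) : ap 0 B = 0 := by
  have h := ap_xor 0 0 B
  rwa [Nat.xor_self, Nat.xor_self] at h

theorem apN_assoc : ∀ (n r A B : ℕ), ap (apN n r A) B = apN n r (rowsMul n A B)
  | 0, _, _, B => ap_zero B
  | n + 1, r, A, B => by
    show ap ((r % 2 * (A % 4096)) ^^^ apN n (r / 2) (A / 4096)) B = _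
    rw [ap_xor, apN_assoc n]
    show _ = (r % 2 * ((ap (A % 4096) B + 4096 * rowsMul n (A / 4096) B) % 4096)) ^^^
      apN n (r / 2) ((ap (A % 4096) B + 4096 * rowsMul n (A / 4096) B) / 4096)
    have hlt := ap_lt (A % 4096) B
    rw [Nat.add_mul_mod_self_left, Nat.mod_eq_of_lt hlt, Nat.add_mul_div_left _ _ (by norm_num),
      Nat.div_eq_of_lt hlt, Nat.zero_add]
    congr 1
    rcases Nat.mod_two_eq_zero_or_one r with e | e <;> simp [e, ap_zero]

theorem ap_mm (r A B : ℕ) : ap r (mm A B) = ap (ap r A) B := by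
  rw [mm_eq]
  exact (apN_assoc 12 r A B).symm

/-- The identity matrix. -/
def one : ℕ := 1 + 4096 * (2 + 4096 * (4 + 4096 * (8 + 4096 * (16 + 4096 * (32 + 4096 * (64 + 4096 *
  (128 + 4096 * (256 + 4096 * (512 + 4096 * (1024 + 4096 * 2048))))))))))

theorem ap_one {r : ℕ} (hr : r < 4096) : ap r one = r := by
  have h : ((List.range 4096).all fun r => Nat.beq (ap r one) r) = true := by decide +kernel
  exact Nat.eq_of_beq_eq_true (List.all_eq_true.1 h r (List.mem_range.2 hr))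

end Cfsg.Agent.Lib.J4Dce59
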