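import Cfsg.Prelude.Def_Spor_J4
import Cfsg.Agent.Lib.J4Dce59.Check.All
import Cfsg.Agent.Lib.J4Dce59.Faithful
import Cfsg.Agent.Lib.J4Dce59.Words
import Cfsg.Agent.Lib.J4Dce89.Bridge
import Cfsg.Agent.Lib.J4M24Bound96.Main
import Cfsg.Agent.Lib.J4Low8.Divides

/-!
# The presented Janko group `J4`: order and the index of `2^11:M24`
-/

set_option autoImplicit false
set_option maxRecDepth 20000

namespace Cfsg.Agent.Lib.J4Dce59

open Cfsg.Agent.Lib.J4Low8 (jx jy jt jw ju)

theorem m24Bound : M24Bound := fun {_} _ x y h => by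
  obtain ⟨h1, h2, h3, h4, h5, h6, h7⟩ := h
  exact J4M24Bound96.finite_closure_card_le x y ⟨h1, h2, h3, h4, h5, h6, h7⟩

theorem model_facts : Function.Injective rho ∧ Nat.card P = 501397585920 :=
  rho_inj m24Bound Check.covOK.els Data.hLevels Check.hchain.1 Check.hchain.2

instance finite_P : Finite P := (P_card m24Bound).1

/-- The presented group. -/
abbrev J : Type := Cfsg.Spor.J4

open Cfsg.Spor.J4 in
theorem mk_extra (r : FreeGroup Cfsg.Spor.J4.Gen) (hr : r ∈ extra) :
    PresentedGroup.mk (Cfsg.Spor.coxRelators edges ∪ {r | r ∈ extra}) r = 1 :=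
  PresentedGroup.one_of_mem (Or.inr hr)

open Cfsg.Spor.J4 in
theorem relators : J4M24Bound96.Rels24 jx jy ∧ jt * jt = 1 ∧ Commute jx jt ∧
    Commute (wordK jx jy) jt ∧ (jy * ((wordS jx jy)⁻¹ * jt * wordS jx jy)) ^ 3 = 1 ∧
    (wordPp jx jy * jt * ((wordV jx jy)⁻¹ * jt * wordV jx jy)) ^ 2 = 1 := by
  have h : ∀ r ∈ extra, PresentedGroup.mk (Cfsg.Spor.coxRelators edges ∪ {r | r ∈ extra}) r = 1 :=
    mk_extra
  simp only [extra, List.forall_mem_cons, List.not_mem_nil, false_imp_iff, implies_true, and_true,
    map_mul, map_inv, map_pow] at h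
  obtain ⟨h1, h2, h3, h4, h5, h6, h7, h8, h9, h10, h11, h12⟩ := h
  have ht : jt * jt = 1 := (pow_two jt).symm.trans h8
  have comm : ∀ a : J, jt⁻¹ * a⁻¹ * jt * a = 1 → Commute a jt := fun a ha => by
    have e : a⁻¹ * jt * a = jt := by
      rw [mul_assoc, mul_assoc, inv_mul_eq_one] at ha
      rw [mul_assoc]; exact ha.symm
    exact ((congrArg (a * ·) e).symm.trans (by group) : a * jt = jt * a)
  exact ⟨⟨h1, h2, h3, h4, h5, h6, h7⟩, ht, comm _ h10, comm _ h9, h11, h12⟩

theorem hu_exists : ∃ e : Fin 11 → J, HRel jx jy e ∧ ju = bitsProd e 934 := by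
  obtain ⟨h, ht, tx, tk, r11, r12⟩ := relators
  exact J4Dce89.exists_e h ht tx tk r11 r12

/-- The homomorphism from `2^11:M24`. -/
noncomputable def phi : P →* J := (exists_hom hu_exists.choose_spec.1).choose

theorem phi_x : phi px = jx := (exists_hom hu_exists.choose_spec.1).choose_spec.1

theorem phi_y : phi py = jy := (exists_hom hu_exists.choose_spec.1).choose_spec.2.1

theorem phi_pu : phi pu = ju := by
  rw [pu, map_bitsProd, hu_exists.choose_spec.2]
  exact congrArg (bitsProd · 934) (funext (exists_hom hu_exists.choose_spec.1).choose_spec.2.2)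

theorem phi_rel (ri : ℕ) :
    ((relWord ri).1.map fun w => jt * phi (wordP w)).prod = phi (wordP (relWord ri).2) := by
  obtain ⟨hA, hB, hC, hD, hU, hyu⟩ := rel_words model_facts.1
  obtain ⟨-, -, -, -, r11, r12⟩ := relators
  obtain ⟨mS, mV, mP, mW, -⟩ := map_words phi px py
  have e0 : wordP ([] : List ℕ) = 1 := rfl
  have q1 := conj_cube r11
  obtain ⟨q2, q3⟩ := conj_square r12
  have q4 := conj_u (show (jy * ((wordW jx jy)⁻¹ * jt * wordW jx jy)) ^ 3 = ju from rfl)
    (show Commute jy ju by
      rw [← phi_y, ← phi_pu]; exact ((show Commute py pu from hyu).map phi))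
  rcases ri with _ | _ | _ | n <;>
    simp only [relWord, List.map_cons, List.map_nil, List.prod_cons, List.prod_nil, e0, map_one, hA, hB,
      hC, hD, hU, map_mul, map_inv, mS, mV, mP, mW, phi_x, phi_y, phi_pu]
  · simpa [pow_succ, pow_zero, mul_assoc] using q1
  · simpa [pow_succ, pow_zero, mul_assoc] using q2
  · simpa [pow_succ, pow_zero, mul_assoc] using q3
  · simpa [pow_succ, pow_zero, mul_assoc] using q4

/-- The environment of the enumeration. -/
noncomputable def env : Env J where
  φ := phi
  t := jt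
  inj := model_facts.1
  t_sq := relators.2.1
  comm_x := by rw [phi_x]; exact relators.2.2.1.eq
  comm_k := by
    rw [lists_eq.2.2.2.2.2.2.2, (map_words phi px py).2.2.2.2, phi_x, phi_y]
    exact relators.2.2.2.1.eq
  rel := phi_rel

theorem env_gen : env.H ⊔ Subgroup.zpowers env.t = ⊤ := by
  rw [eq_top_iff, ← PresentedGroup.closure_range_of
    (Cfsg.Spor.coxRelators Cfsg.Spor.J4.edges ∪ {r | r ∈ Cfsg.Spor.J4.extra}), Subgroup.closure_le]
  rintro g ⟨a, rfl⟩
  cases a
  · exact Subgroup.mem_sup_left ⟨px, phi_x⟩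
  · exact Subgroup.mem_sup_left ⟨py, phi_y⟩
  · exact Subgroup.mem_sup_right (Subgroup.mem_zpowers _)

theorem phi_injective : Function.Injective phi := by
  rw [← MonoidHom.ker_eq_bot_iff]
  refine normal_trivial model_facts.1 finite_P phi.ker fun p hp hk => J4Low8.ju_ne_one ?_
  rw [← phi_pu, Code.eq_of model_facts.1 pu_code hp]
  exact hk

theorem sum_sizes : ∑ j ∈ Finset.range Data.C.orbs.length, (Data.C.orb j).size = 173067389 := by
  rw [Check.len7]
  simp only [Finset.sum_range_succ, Finset.sum_range_zero, Check.chain0.2.2, Check.chain1.2.2,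
    Check.chain2.2.2, Check.chain3.2.2, Check.chain4.2.2, Check.chain5.2.2, Check.chain6.2.2]

instance finite_pts : Finite env.Pts := (index_le env Check.covOK finite_P model_facts.2 env_gen).1

theorem card_H : Nat.card env.H = 501397585920 := by
  rw [← model_facts.2]
  exact Nat.card_congr (MonoidHom.ofInjective phi_injective).symm.toEquiv

instance finite_J : Finite J := by
  have : Finite env.H := Nat.finite_of_card_ne_zero (by rw [card_H]; norm_num)
  exact Finite.of_equiv _ (Subgroup.groupEquivQuotientProdSubgroup (s := env.H)).symm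

/-- The order of the presented group, and the index of `2^11:M24`. -/
theorem card_and_index : Nat.card J = 86775571046077562880 ∧ env.H.index = 173067389 := by
  have hle : Nat.card env.Pts ≤ 173067389 := sum_sizes ▸
    (index_le env Check.covOK finite_P model_facts.2 env_gen).2
  have hm : env.H.index * 501397585920 = Nat.card J := card_H ▸ env.H.index_mul_card
  have h1 : (501397585920 : ℕ) ∣ Nat.card J := ⟨env.H.index, by rw [← hm, Nat.mul_comm]⟩
  have h2 := J4Low8.dvd_card_J4
  have hl : (86775571046077562880 : ℕ) ∣ Nat.card J := by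
    have := Nat.lcm_dvd h1 h2
    rwa [show Nat.lcm 501397585920 (11 ^ 3 * 29 * 31 * 37 * 43) = 86775571046077562880 by
      decide +kernel] at this
  have hge := Nat.le_of_dvd Nat.card_pos hl
  have hi : env.H.index = Nat.card env.Pts := rfl
  have hN : (86775571046077562880 : ℕ) = 173067389 * 501397585920 := by norm_num
  have hidx : env.H.index = 173067389 :=
    le_antisymm (hi ▸ hle) (Nat.le_of_mul_le_mul_right
      (show 173067389 * 501397585920 ≤ env.H.index * 501397585920 by rw [hm, ← hN]; exact hge)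
      (by norm_num))
  exact ⟨by rw [← hm, hidx], hidx⟩

theorem index_H : env.H.index = 173067389 := card_and_index.2

theorem card_J : Nat.card J = 86775571046077562880 := card_and_index.1

theorem H_eq_closure : env.H = Subgroup.closure ({jx, jy, ju} : Set J) := by
  show phi.range = _
  rw [MonoidHom.range_eq_map, ← closure_xyu model_facts.1, MonoidHom.map_closure]
  simp [Set.image_insert_eq, phi_x, phi_y, phi_pu]

end Cfsg.Agent.Lib.J4Dce59
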