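import Cfsg.Agent.Lib.J4Dce59.Group

/-!
# The facts of a double coset enumeration and their checker
-/

set_option autoImplicit false

namespace Cfsg.Agent.Lib.J4Dce59

/-- A binary tree used as an array. -/
inductive Tr (α : Type) where
  | leaf (a : α)
  | node (l r : Tr α)

/-- The entry of index `n`. -/
def Tr.get {α : Type} : Tr α → ℕ → α
  | .leaf a, _ => a
  | .node l r, n => cond (Nat.beq (n % 2) 0) (l.get (n / 2)) (r.get (n / 2))

theorem and_iff {a b : Bool} : (a && b) = true ↔ a = true ∧ b = true := Bool.and_eq_true_iff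

theorem beq_iff' {a b : ℕ} : Nat.beq a b = true ↔ a = b :=
  ⟨Nat.eq_of_beq_eq_true, fun h => h ▸ Nat.beq_refl a⟩

/-- A fact: either a stabiliser of an orbit representative or an image under `t`. -/
inductive Fact where
  | stab (i s : ℕ)
  | edge (i h j g : ℕ)

/-- A step: a known edge, stabilisers applied before it, and a word in the centraliser of `t`. -/
structure Step where
  e : ℕ
  s : List ℕ
  k : List ℕ

/-- The code of a word in elements with the given codes. -/
def ev (c : ℕ → ℕ) : List ℕ → ℕ
  | [] => one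
  | [a] => c a
  | a :: b :: l => mm (c a) (ev c (b :: l))

/-- The elements available: straight line programs over the model and over the centraliser of `t`. -/
structure Els where
  el : Tr (ℕ × ℕ × ℕ)
  elN : ℕ
  kel : Tr (ℕ × ℕ × ℕ)
  kN : ℕ

def genCode : ℕ → ℕ
  | 0 => MX
  | 1 => MY
  | n + 2 => tr (2 ^ n)

/-- The word in `x` and `y` for the second generator of the centraliser of `t`. -/
def kWord : List ℕ := [1, 0, 1, 0, 1, 1, 0, 1, 1, 0, 1, 0, 1, 0, 1]

def kGen : ℕ → ℕ
  | 0 => MX
  | _ => ev genCode kWord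

def Els.c (D : Els) (n : ℕ) : ℕ := cond (Nat.ble D.elN n) one (D.el.get n).1

def Els.k (D : Els) (n : ℕ) : ℕ := cond (Nat.ble D.kN n) one (D.kel.get n).1

def Els.okEl (D : Els) (n : ℕ) : Bool :=
  cond (Nat.ble 13 n)
    (Nat.blt (D.el.get n).2.1 n && Nat.blt (D.el.get n).2.2 n &&
      Nat.beq (D.el.get n).1 (mm (D.el.get (D.el.get n).2.1).1 (D.el.get (D.el.get n).2.2).1))
    (Nat.beq (D.el.get n).1 (genCode n))

def Els.okK (D : Els) (n : ℕ) : Bool :=
  cond (Nat.ble 2 n)
    (Nat.blt (D.kel.get n).2.1 n && Nat.blt (D.kel.get n).2.2 n &&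
      Nat.beq (D.kel.get n).1 (mm (D.kel.get (D.kel.get n).2.1).1 (D.kel.get (D.kel.get n).2.2).1))
    (Nat.beq (D.kel.get n).1 (kGen n))

/-- How a fact is derived. Lists of elements are words in the available elements. -/
inductive Rule where
  | gen (s : List ℕ)
  | defn (h : List ℕ)
  | rev (n : ℕ)
  | prod (a b : ℕ)
  | look (st : Step) (h g : List ℕ)
  | ded (ri start : ℕ) (h : List ℕ) (pre suf : List Step) (g : List ℕ)
  | loop (ri start : ℕ) (h : List ℕ) (st : List Step) (e : List ℕ)
  | cons (a b : Step) (e : List ℕ)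

/-- The words of the long relations, each letter preceded by `t`. -/
def relWord : ℕ → List (List ℕ) × List ℕ
  | 0 => ([wA, wA, wA], [])
  | 1 => ([wB, wC, wB, wC], [])
  | 2 => ([wC, wB, wC, wB], [])
  | _ => ([wD, wD, wD], [3, 4, 6, 10])
where
  wA := [1, 0, 1, 1, 0, 1, 0, 1, 1, 0, 1, 0, 1, 0, 1, 1, 0, 1, 0, 1, 1]
  wB := [1, 1, 1, 1, 0, 1, 1, 0, 1, 1, 0, 1, 1, 0, 1, 1, 0, 1, 1, 0, 1, 1, 1, 1, 0, 1, 1, 0, 1, 1, 0]
  wC := [0, 1, 0, 1, 0, 1, 1, 0, 1, 0, 1, 0, 1, 0, 1, 0, 1, 0, 1, 1, 1, 0, 1, 0, 1, 0, 1, 1, 0, 1, 0, 1,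
    0, 1, 1, 0, 1, 0, 1, 0, 1]
  wD := [1, 0, 1, 0, 1, 0, 1, 0, 1, 1, 0, 1, 0, 1, 0, 1, 1, 0, 1, 1, 0, 1, 1, 0, 1, 1]

/-- The codes of the letters of a relation. -/
def relCode : ℕ → List ℕ × ℕ
  | 0 => ([cA, cA, cA], one)
  | 1 => ([cB, cC, cB, cC], one)
  | 2 => ([cC, cB, cC, cB], one)
  | _ => ([cD, cD, cD], tr 278)
where
  cA := 11152491554864374653659626644820594226288355
  cB := 11152175079159539749257768607192566216828458
  cC := 11150386180042908730694981204816595017302501
  cD := 11151735698237446855755425615258524990845518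

/-- The whole derivation. -/
structure Deriv extends Els where
  fact : Tr Fact
  rule : Tr Rule
  n : ℕ
  defs : List (ℕ × ℕ)

variable (D : Deriv)

/-- The product of the stabilisers listed, checked to be stabilisers of `i` proved before `bound`. -/
def sEv (bound i : ℕ) : List ℕ → Option ℕ
  | [] => some one
  | a :: l =>
    match D.fact.get a, sEv bound i l with
    | .stab i' s, some r => cond (Nat.blt a bound && Nat.beq i' i) (some (mm s r)) none
    | _, _ => none

/-- The element before and the point after a step from the orbit `i`. -/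
def stepData (bound : ℕ) (st : Step) : Option (ℕ × ℕ × ℕ × ℕ) :=
  match D.fact.get st.e with
  | .edge i h0 j g0 =>
    match sEv D bound i st.s with
    | some r => cond (Nat.blt st.e bound)
        (some (i, mm (mm r h0) (ev D.k st.k), j, mm g0 (ev D.k st.k))) none
    | none => none
  | _ => none

/-- Take a step from `(i, h)`. -/
def doStep (bound : ℕ) (i h : ℕ) (st : Step) : Option (ℕ × ℕ) :=
  match stepData D bound st with
  | some (i', h', j, g) => cond (Nat.beq i' i && Nat.beq h' h) (some (j, g)) none
  | none => none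

/-- Walk along `t`, a letter, `t`, a letter, and so on. -/
def walk (bound : ℕ) : ℕ → ℕ → List ℕ → List Step → Option (ℕ × ℕ)
  | i, h, [], [] => some (i, h)
  | i, h, w :: ws, st :: sts =>
    match doStep D bound i h st with
    | some (j, g) => walk bound j (mm g w) ws sts
    | none => none
  | _, _, _, _ => none

/-- Equality of points. -/
def isAt : Option (ℕ × ℕ) → ℕ → ℕ → Bool
  | some (i, h), j, g => Nat.beq i j && Nat.beq h g
  | none, _, _ => false

/-- The check of fact `n`. -/
def okFact (n : ℕ) : Bool :=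
  match D.rule.get n, D.fact.get n with
  | .gen s, .stab i c => Nat.beq i 0 && Nat.beq (ev D.c s) c
  | .defn h, .edge i c j g =>
      Nat.beq (ev D.c h) c && Nat.beq g one && Nat.blt i j && Nat.ble j D.defs.length &&
        Nat.beq (D.defs.getD (j - 1) (0, 0)).1 i && Nat.beq (D.defs.getD (j - 1) (0, 0)).2 c
  | .rev a, .edge i h j g =>
      Nat.blt a n && match D.fact.get a with
      | .edge i' h' j' g' => Nat.beq i' j && Nat.beq h' g && Nat.beq j' i && Nat.beq g' h
      | _ => false
  | .prod a b, .stab i s =>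
      Nat.blt a n && Nat.blt b n && match D.fact.get a, D.fact.get b with
      | .stab i1 s1, .stab i2 s2 => Nat.beq i1 i && Nat.beq i2 i && Nat.beq (mm s1 s2) s
      | _, _ => false
  | .look st hd gd, .edge i h j g =>
      Nat.beq (ev D.c hd) h && Nat.beq (ev D.c gd) g && Nat.blt st.e n &&
        match D.fact.get st.e, sEv D n i st.s with
        | .edge i' h' j' g', some r => Nat.beq i' i && Nat.beq j' j &&
            Nat.beq (mm (mm r h) (ev D.k st.k)) h' && Nat.beq (mm g (ev D.k st.k)) g'
        | _, _ => false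
  | .ded ri start hd pre suf gd, .edge i h j g =>
      Nat.beq (ev D.c gd) g &&
        isAt (walk D n start (ev D.c hd) ((relCode ri).1.take pre.length) pre) i h &&
        match (relCode ri).1.drop pre.length with
        | w :: ws => isAt (walk D n j (mm g w) ws suf) start (mm (ev D.c hd) (relCode ri).2)
        | [] => false
  | .loop ri start hd st ed, .stab i e =>
      Nat.beq start i && Nat.beq (ev D.c ed) e &&
        isAt (walk D n start (ev D.c hd) (relCode ri).1 st) i
          (mm e (mm (ev D.c hd) (relCode ri).2))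
  | .cons a b ed, .stab i e =>
      Nat.beq (ev D.c ed) e && match stepData D n a, stepData D n b with
      | some (i1, h1, j1, g1), some (i2, h2, j2, g2) =>
          Nat.beq i1 i2 && Nat.beq h1 h2 && Nat.beq j1 i && Nat.beq j2 i && Nat.beq (mm e g2) g1
      | _, _ => false
  | _, _ => false

/-- All facts with index from `a` on, `k` of them, are right. -/
def okFacts (a k : ℕ) : Bool := (List.range k).all fun i => okFact D (a + i)

def okEls (a k : ℕ) : Bool := (List.range k).all fun i => D.okEl (a + i)

def okKs (a k : ℕ) : Bool := (List.range k).all fun i => D.okK (a + i)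

end Cfsg.Agent.Lib.J4Dce59
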