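import Cfsg.Agent.Lib.J4Dce59.Rules

/-!
# Soundness of the checker
-/

set_option autoImplicit false
set_option maxRecDepth 20000

namespace Cfsg.Agent.Lib.J4Dce59

universe u

/-- The generators as elements of the model. -/
def genP : ℕ → P
  | 0 => px
  | 1 => py
  | n + 2 => if h : n < 11 then pe ⟨n, h⟩ else 1

theorem code_genP : ∀ n, n < 13 → Code (genP n) (genCode n)
  | 0, _ => code_x
  | 1, _ => code_y
  | n + 2, h => by
    have h' : n < 11 := by omega
    simp only [genP, dif_pos h', genCode]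
    exact code_e ⟨n, h'⟩

/-- A word in the generators. -/
def wordP (l : List ℕ) : P := (l.map genP).prod

theorem code_word {c : ℕ → ℕ} {f : ℕ → P} : ∀ (l : List ℕ), (∀ a ∈ l, Code (f a) (c a)) →
    Code (l.map f).prod (ev c l)
  | [], _ => by rw [List.map_nil, List.prod_nil]; exact Code.one'
  | [a], h => by rw [List.map_singleton, List.prod_singleton]; exact h a (List.mem_singleton_self a)
  | a :: b :: l, h => by
    rw [List.map_cons, List.prod_cons]
    exact (h a List.mem_cons_self).mul (code_word (b :: l) fun x hx => h x (List.mem_cons_of_mem _ hx))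

theorem code_wordP (l : List ℕ) (h : ∀ a ∈ l, a < 13) : Code (wordP l) (ev genCode l) :=
  code_word l fun a ha => code_genP a (h a ha)

/-- A group with the relations of the double coset enumeration. -/
structure Env (G : Type u) [Group G] where
  φ : P →* G
  t : G
  inj : Function.Injective rho
  t_sq : t * t = 1
  comm_x : φ px * t = t * φ px
  comm_k : φ (wordP kWord) * t = t * φ (wordP kWord)
  rel : ∀ ri, ((relWord ri).1.map fun w => t * φ (wordP w)).prod = φ (wordP (relWord ri).2)

variable {G : Type u} [Group G] (V : Env G)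

/-- A value of the homomorphism at a matrix. -/
noncomputable def Env.val (c : ℕ) : G :=
  open Classical in if h : ∃ p, Code p c then V.φ h.choose else 1

/-- The matrix is that of an element of the model. -/
def IsEl (c : ℕ) : Prop := ∃ p, Code p c

theorem Code.eq_of (inj : Function.Injective rho) {p q : P} {c : ℕ} (hp : Code p c) (hq : Code q c) :
    p = q := inj (Cd.eq hp hq)

theorem Env.val_eq {p : P} {c : ℕ} (h : Code p c) : V.val c = V.φ p := by
  have he : ∃ p, Code p c := ⟨p, h⟩
  rw [Env.val, dif_pos he, Code.eq_of V.inj he.choose_spec h]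

theorem IsEl.one' : IsEl one := ⟨1, Code.one'⟩

theorem IsEl.mul {a b : ℕ} (ha : IsEl a) (hb : IsEl b) : IsEl (mm a b) := by
  obtain ⟨p, hp⟩ := ha; obtain ⟨q, hq⟩ := hb; exact ⟨p * q, hp.mul hq⟩

theorem Env.val_one : V.val one = 1 := by rw [V.val_eq Code.one', map_one]

theorem Env.val_mul {a b : ℕ} (ha : IsEl a) (hb : IsEl b) : V.val (mm a b) = V.val a * V.val b := by
  obtain ⟨p, hp⟩ := ha; obtain ⟨q, hq⟩ := hb
  rw [V.val_eq (hp.mul hq), V.val_eq hp, V.val_eq hq, map_mul]

/-- The image of the model. -/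
def Env.H : Subgroup G := V.φ.range

theorem Env.val_mem {a : ℕ} (ha : IsEl a) : V.val a ∈ V.H := by
  obtain ⟨p, hp⟩ := ha; exact ⟨p, (V.val_eq hp).symm⟩

/-- The same right coset of the image of the model. -/
def Env.Sim (a b : G) : Prop := a * b⁻¹ ∈ V.H

theorem Env.sim_refl (a : G) : V.Sim a a := by rw [Env.Sim, mul_inv_cancel]; exact one_mem _

theorem Env.sim_symm {a b : G} (h : V.Sim a b) : V.Sim b a := by
  have := inv_mem h; rwa [mul_inv_rev, inv_inv] at this

theorem Env.sim_trans {a b c : G} (h₁ : V.Sim a b) (h₂ : V.Sim b c) : V.Sim a c := by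
  have := mul_mem h₁ h₂; rwa [mul_assoc, inv_mul_cancel_left] at this

theorem Env.sim_mul {a b : G} (h : V.Sim a b) (c : G) : V.Sim (a * c) (b * c) := by
  rw [Env.Sim, mul_inv_rev, mul_assoc, mul_inv_cancel_left]; exact h

theorem Env.sim_cancel {a b : G} (c : G) (h : V.Sim (a * c) (b * c)) : V.Sim a b := by
  have := V.sim_mul h c⁻¹; rwa [mul_inv_cancel_right, mul_inv_cancel_right] at this

variable (D : Deriv)

/-- The list of the representatives. -/
noncomputable def wList : List (ℕ × ℕ) → List G → List G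
  | [], acc => acc
  | (i, c) :: l, acc => wList l (acc ++ [acc.getD i 1 * V.val c * V.t])

/-- The representative of orbit `i`. -/
noncomputable def Env.w (i : ℕ) : G := (wList V D.defs [1]).getD i 1

/-- A fact holds. -/
def Val : Fact → Prop
  | .stab i s => IsEl s ∧ V.Sim (V.w D i * V.val s) (V.w D i)
  | .edge i h j g => IsEl h ∧ IsEl g ∧ V.Sim (V.w D i * V.val h * V.t) (V.w D j * V.val g)

theorem wList_getD : ∀ (l : List (ℕ × ℕ)) (acc : List G) (j : ℕ), j < acc.length →
    (wList V l acc).getD j 1 = acc.getD j 1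
  | [], _, _, _ => rfl
  | (i, c) :: l, acc, j, hj => by
    rw [wList, wList_getD l _ j (by simp only [List.length_append, List.length_singleton]; omega), List.getD_append _ _ _ _ hj]

theorem wList_step : ∀ (l : List (ℕ × ℕ)) (acc : List G) (m : ℕ), m < l.length →
    (l.getD m (0, 0)).1 < acc.length + m →
    (wList V l acc).getD (acc.length + m) 1 =
      (wList V l acc).getD (l.getD m (0, 0)).1 1 * V.val (l.getD m (0, 0)).2 * V.t
  | [], _, _, h, _ => absurd h (Nat.not_lt_zero _)
  | (i, c) :: l, acc, 0, _, hi => by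
    simp only [List.getD_cons_zero, Nat.add_zero] at hi ⊢
    rw [wList, wList_getD V l _ _ (by simp only [List.length_append, List.length_singleton]; omega), wList_getD V l _ _ (by simp only [List.length_append, List.length_singleton]; omega),
      List.getD_append_right _ _ _ _ le_rfl, Nat.sub_self, List.getD_cons_zero,
      List.getD_append _ _ _ _ hi]
  | (i, c) :: l, acc, m + 1, h, hi => by
    simp only [List.getD_cons_succ] at hi ⊢
    rw [wList]
    have := wList_step l (acc ++ [acc.getD i 1 * V.val c * V.t]) m (by simpa using h)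
      (by simp only [List.length_append, List.length_singleton]; omega)
    rw [List.length_append, List.length_singleton, show acc.length + 1 + m = acc.length + (m + 1) by omega]
      at this
    exact this

theorem w_zero : V.w D 0 = 1 := by
  rw [Env.w, wList_getD V _ _ _ (by simp), List.getD_cons_zero]

/-- The elements are all right. -/
structure ElsOK : Prop where
  el : ∀ n, n < D.elN → D.okEl n = true
  k : ∀ n, n < D.kN → D.okK n = true

variable {D}

theorem c_eq (E : Els) {m : ℕ} (hm : m < E.elN) : E.c m = (E.el.get m).1 := by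
  unfold Els.c
  rw [show Nat.ble E.elN m = false from Bool.eq_false_iff.2 fun h => by
    have := Nat.le_of_ble_eq_true h; omega]
  exact cond_false _ _

theorem c_one (E : Els) {m : ℕ} (hm : E.elN ≤ m) : E.c m = one := by
  unfold Els.c
  rw [Nat.ble_eq_true_of_le hm]
  exact cond_true _ _

theorem k_eq (E : Els) {m : ℕ} (hm : m < E.kN) : E.k m = (E.kel.get m).1 := by
  unfold Els.k
  rw [show Nat.ble E.kN m = false from Bool.eq_false_iff.2 fun h => by
    have := Nat.le_of_ble_eq_true h; omega]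
  exact cond_false _ _

theorem k_one (E : Els) {m : ℕ} (hm : E.kN ≤ m) : E.k m = one := by
  unfold Els.k
  rw [Nat.ble_eq_true_of_le hm]
  exact cond_true _ _

theorem okEl_step (E : Els) (n : ℕ) (h : E.okEl n = true) (hb : Nat.ble 13 n = true) :
    (E.el.get n).2.1 < n ∧ (E.el.get n).2.2 < n ∧
    (E.el.get n).1 = mm (E.el.get (E.el.get n).2.1).1 (E.el.get (E.el.get n).2.2).1 := by
  unfold Els.okEl at h
  rw [hb, cond_true, and_iff, and_iff, beq_iff', Nat.blt_eq, Nat.blt_eq] at h
  exact ⟨h.1.1, h.1.2, h.2⟩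

theorem okEl_gen (E : Els) (n : ℕ) (h : E.okEl n = true) (hb : Nat.ble 13 n = false) :
    (E.el.get n).1 = genCode n := by
  unfold Els.okEl at h
  rw [hb, cond_false, beq_iff'] at h
  exact h

theorem okK_step (E : Els) (n : ℕ) (h : E.okK n = true) (hb : Nat.ble 2 n = true) :
    (E.kel.get n).2.1 < n ∧ (E.kel.get n).2.2 < n ∧
    (E.kel.get n).1 = mm (E.kel.get (E.kel.get n).2.1).1 (E.kel.get (E.kel.get n).2.2).1 := by
  unfold Els.okK at h
  rw [hb, cond_true, and_iff, and_iff, beq_iff', Nat.blt_eq, Nat.blt_eq] at h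
  exact ⟨h.1.1, h.1.2, h.2⟩

theorem okK_gen (E : Els) (n : ℕ) (h : E.okK n = true) (hb : Nat.ble 2 n = false) :
    (E.kel.get n).1 = kGen n := by
  unfold Els.okK at h
  rw [hb, cond_false, beq_iff'] at h
  exact h

theorem isEl_c (hE : ElsOK D) : ∀ n, IsEl (D.c n) := by
  intro n
  induction n using Nat.strong_induction_on with
  | _ n ih =>
    rcases Nat.lt_or_ge n D.elN with hn | hn
    · rw [c_eq _ hn]
      cases hb : Nat.ble 13 n
      · rw [okEl_gen _ n (hE.el n hn) hb]
        refine ⟨_, code_genP n (Nat.lt_of_not_le fun h => ?_)⟩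
        rw [Nat.ble_eq_true_of_le h] at hb
        cases hb
      · obtain ⟨ha, hb', he⟩ := okEl_step _ n (hE.el n hn) hb
        have i1 := ih _ ha
        have i2 := ih _ hb'
        rw [c_eq _ (ha.trans hn)] at i1
        rw [c_eq _ (hb'.trans hn)] at i2
        exact Eq.mpr (congrArg IsEl he) (IsEl.mul i1 i2)
    · rw [c_one _ hn]
      exact IsEl.one'

theorem isEl_ev {c : ℕ → ℕ} (hc : ∀ n, IsEl (c n)) : ∀ l, IsEl (ev c l)
  | [] => IsEl.one'
  | [a] => hc a
  | a :: b :: l => (hc a).mul (isEl_ev hc (b :: l))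

theorem kGen_spec : ∀ n, n < 2 → IsEl (kGen n) ∧ Commute (V.val (kGen n)) V.t
  | 0, _ => ⟨⟨_, code_x⟩, by
      show Commute (V.val MX) V.t
      rw [V.val_eq code_x]; exact V.comm_x⟩
  | 1, _ => by
      have hk := code_wordP kWord (by decide)
      refine ⟨⟨_, hk⟩, ?_⟩
      show Commute (V.val (ev genCode kWord)) V.t
      rw [V.val_eq hk]; exact V.comm_k
  | n + 2, h => absurd h (by omega)

theorem k_mul {a b : ℕ} (ha : IsEl a ∧ Commute (V.val a) V.t) (hb : IsEl b ∧ Commute (V.val b) V.t) :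
    IsEl (mm a b) ∧ Commute (V.val (mm a b)) V.t :=
  ⟨ha.1.mul hb.1, by rw [V.val_mul ha.1 hb.1]; exact ha.2.mul_left hb.2⟩

theorem k_spec (hE : ElsOK D) : ∀ n, IsEl (D.k n) ∧ Commute (V.val (D.k n)) V.t := by
  intro n
  induction n using Nat.strong_induction_on with
  | _ n ih =>
    rcases Nat.lt_or_ge n D.kN with hn | hn
    · rw [k_eq _ hn]
      cases hb : Nat.ble 2 n
      · rw [okK_gen _ n (hE.k n hn) hb]
        refine kGen_spec V n (Nat.lt_of_not_le fun h => ?_)
        rw [Nat.ble_eq_true_of_le h] at hb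
        cases hb
      · obtain ⟨ha, hb', he⟩ := okK_step _ n (hE.k n hn) hb
        have i1 := ih _ ha
        have i2 := ih _ hb'
        rw [k_eq _ (ha.trans hn)] at i1
        rw [k_eq _ (hb'.trans hn)] at i2
        have key := k_mul V i1 i2
        rwa [← he] at key
    · rw [k_one _ hn]
      exact ⟨IsEl.one', by rw [V.val_one]; exact Commute.one_left _⟩

theorem kev_spec (hE : ElsOK D) : ∀ l, IsEl (ev D.k l) ∧ Commute (V.val (ev D.k l)) V.t
  | [] => ⟨IsEl.one', by rw [show ev D.k [] = one from rfl, V.val_one]; exact Commute.one_left _⟩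
  | [a] => k_spec V hE a
  | a :: b :: l => by
    have h₁ := k_spec V hE a; have h₂ := kev_spec hE (b :: l)
    refine ⟨h₁.1.mul h₂.1, ?_⟩
    show Commute (V.val (mm _ _)) V.t
    rw [V.val_mul h₁.1 h₂.1]
    exact h₁.2.mul_left h₂.2

variable {n : ℕ} (hE : ElsOK D) (IH : ∀ m, m < n → Val V D (D.fact.get m))

include hE IH

omit hE in
theorem sEv_spec (i : ℕ) : ∀ (l : List ℕ) (r : ℕ), sEv D n i l = some r →
    IsEl r ∧ V.Sim (V.w D i * V.val r) (V.w D i)
  | [], r, h => by
    rw [sEv, Option.some.injEq] at h; subst h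
    exact ⟨IsEl.one', by rw [V.val_one, mul_one]; exact V.sim_refl _⟩
  | a :: l, r, h => by
    rw [sEv] at h
    split at h
    · next i' s r' hf hr =>
      cases hb : (Nat.blt a n && Nat.beq i' i) <;> rw [hb] at h
      · simp at h
      · simp only [cond_true, Option.some.injEq] at h
        simp only [and_iff, beq_iff', Nat.blt_eq] at hb
        obtain ⟨ha, rfl⟩ := hb
        subst h
        obtain ⟨hs, hss⟩ := sEv_spec i' l r' hr
        have hv := IH a ha
        rw [hf] at hv
        obtain ⟨hel, hsim⟩ := hv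
        refine ⟨hel.mul hs, ?_⟩
        rw [V.val_mul hel hs, ← mul_assoc]
        exact V.sim_trans (V.sim_mul hsim _) hss
    · simp at h

theorem stepData_spec {st : Step} {i h j g : ℕ} (hst : stepData D n st = some (i, h, j, g)) :
    IsEl h ∧ IsEl g ∧ V.Sim (V.w D i * V.val h * V.t) (V.w D j * V.val g) := by
  rw [stepData] at hst
  split at hst
  · next i' h0 j' g0 hf =>
    split at hst
    · next r hr =>
      cases hb : Nat.blt st.e n <;> rw [hb] at hst
      · simp at hst
      · simp only [cond_true, Option.some.injEq, Prod.mk.injEq] at hst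
        obtain ⟨rfl, rfl, rfl, rfl⟩ := hst
        obtain ⟨hs, hss⟩ := sEv_spec V IH i' _ _ hr
        have hv := IH st.e (Nat.blt_eq.mp hb)
        rw [hf] at hv
        obtain ⟨h1, h2, h3⟩ := hv
        obtain ⟨hk, hkt⟩ := kev_spec V hE st.k
        refine ⟨(hs.mul h1).mul hk, h2.mul hk, ?_⟩
        rw [V.val_mul (hs.mul h1) hk, V.val_mul hs h1, V.val_mul h2 hk, ← mul_assoc, ← mul_assoc,
          mul_assoc _ (V.val (ev D.k st.k)) V.t, hkt.eq, ← mul_assoc, ← mul_assoc]
        refine V.sim_mul (V.sim_trans ?_ h3) _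
        exact V.sim_mul (V.sim_mul hss _) _
    · simp at hst
  · simp at hst

theorem doStep_spec {st : Step} {i h j g : ℕ} (hst : doStep D n i h st = some (j, g)) :
    IsEl h ∧ IsEl g ∧ V.Sim (V.w D i * V.val h * V.t) (V.w D j * V.val g) := by
  rw [doStep] at hst
  split at hst
  · next i' h' j' g' hd =>
    cases hb : (Nat.beq i' i && Nat.beq h' h) <;> rw [hb] at hst
    · simp at hst
    · simp only [cond_true, Option.some.injEq, Prod.mk.injEq] at hst
      simp only [and_iff, beq_iff'] at hb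
      obtain ⟨rfl, rfl⟩ := hb
      obtain ⟨rfl, rfl⟩ := hst
      exact stepData_spec V hE IH hd
  · simp at hst

theorem walk_spec : ∀ (ws : List ℕ) (sts : List Step) (i h : ℕ) (i' h' : ℕ), IsEl h →
    (∀ w ∈ ws, IsEl w) → walk D n i h ws sts = some (i', h') →
    IsEl h' ∧ V.Sim (V.w D i * V.val h * (ws.map fun w => V.t * V.val w).prod) (V.w D i' * V.val h')
  | [], [], i, h, i', h', hh, _, e => by
    rw [walk, Option.some.injEq, Prod.mk.injEq] at e
    obtain ⟨rfl, rfl⟩ := e
    exact ⟨hh, by rw [List.map_nil, List.prod_nil, mul_one]; exact V.sim_refl _⟩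
  | [], _ :: _, _, _, _, _, _, _, e => by simp [walk] at e
  | _ :: _, [], _, _, _, _, _, _, e => by simp [walk] at e
  | w :: ws, st :: sts, i, h, i', h', _, hw, e => by
    rw [walk] at e
    split at e
    · next j g hd =>
      obtain ⟨-, hg, hsim⟩ := doStep_spec V hE IH hd
      have hw1 := hw w List.mem_cons_self
      obtain ⟨hh', hs⟩ := walk_spec ws sts j (mm g w) i' h' (hg.mul hw1)
        (fun x hx => hw x (List.mem_cons_of_mem _ hx)) e
      refine ⟨hh', V.sim_trans ?_ hs⟩
      rw [V.val_mul hg hw1, List.map_cons, List.prod_cons, ← mul_assoc, ← mul_assoc, ← mul_assoc]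
      exact V.sim_mul (V.sim_mul hsim _) _
    · simp at e

omit hE IH

theorem relCode_spec (ri : ℕ) :
    (∀ w ∈ (relCode ri).1, IsEl w) ∧ IsEl (relCode ri).2 ∧
    ((relCode ri).1.map fun w => V.t * V.val w).prod = V.val (relCode ri).2 := by
  have key : ∀ m, m < 4 → (relCode m).1 = (relWord m).1.map (ev genCode) ∧
      (relCode m).2 = ev genCode (relWord m).2 ∧ (∀ w ∈ (relWord m).1, ∀ a ∈ w, a < 13) ∧
      ∀ a ∈ (relWord m).2, a < 13 := by decide +kernel
  obtain ⟨m, hm, h1, h2⟩ : ∃ m, m < 4 ∧ relCode ri = relCode m ∧ relWord ri = relWord m := by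
    rcases ri with _ | _ | _ | _ | n
    exacts [⟨0, by norm_num, rfl, rfl⟩, ⟨1, by norm_num, rfl, rfl⟩, ⟨2, by norm_num, rfl, rfl⟩,
      ⟨3, by norm_num, rfl, rfl⟩, ⟨3, by norm_num, rfl, rfl⟩]
  obtain ⟨e1, e2, e3, e4⟩ := key m hm
  rw [h1, e1, e2]
  refine ⟨?_, ⟨_, code_wordP _ e4⟩, ?_⟩
  · intro w hw
    obtain ⟨l, hl, rfl⟩ := List.mem_map.1 hw
    exact ⟨_, code_wordP l (e3 l hl)⟩
  · rw [List.map_map, V.val_eq (code_wordP _ e4), ← V.rel m]
    refine congrArg List.prod (List.map_congr_left fun l hl => ?_)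
    show V.t * V.val (ev genCode l) = _
    rw [V.val_eq (code_wordP l (e3 l hl))]

theorem isAt_iff {o : Option (ℕ × ℕ)} {i h : ℕ} : isAt o i h = true ↔ o = some (i, h) := by
  rcases o with _ | ⟨a, b⟩
  · simp [isAt]
  · simp [isAt, and_iff, beq_iff']

/-- A checked fact holds, provided the earlier ones do. -/
theorem okFact_spec (hE : ElsOK D) (n : ℕ) (IH : ∀ m, m < n → Val V D (D.fact.get m))
    (h : okFact D n = true) : Val V D (D.fact.get n) := by
  rw [okFact] at h
  split at h
  · next s i c _ hf =>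
    simp only [and_iff, beq_iff'] at h
    obtain ⟨rfl, rfl⟩ := h
    rw [hf]
    refine ⟨isEl_ev (isEl_c hE) _, ?_⟩
    rw [w_zero, one_mul, Env.Sim, inv_one, mul_one]
    exact V.val_mem (isEl_ev (isEl_c hE) _)
  · next hd i c j g _ hf =>
    simp only [and_iff, beq_iff', Nat.blt_eq, Nat.ble_eq] at h
    obtain ⟨⟨⟨⟨⟨hc, rfl⟩, hij⟩, hj⟩, h1⟩, h2⟩ := h
    rw [hf]
    refine ⟨hc ▸ isEl_ev (isEl_c hE) _, IsEl.one', ?_⟩
    have := wList_step V D.defs [1] (j - 1) (by omega) (by
      rw [h1, List.length_singleton]; omega)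
    rw [List.length_singleton, show 1 + (j - 1) = j by omega, h1, h2] at this
    rw [V.val_one, mul_one, Env.w, Env.w, this]
    exact V.sim_refl _
  · next a i hh j g _ hf =>
    rw [and_iff] at h
    obtain ⟨ha, h⟩ := h
    split at h
    · next i' h' j' g' hfa =>
      simp only [and_iff, beq_iff'] at h
      obtain ⟨⟨⟨rfl, rfl⟩, rfl⟩, rfl⟩ := h
      have hv := IH a (Nat.blt_eq.mp ha)
      rw [hfa] at hv
      obtain ⟨h1, h2, h3⟩ := hv
      rw [hf]
      refine ⟨h2, h1, ?_⟩
      have := V.sim_mul (V.sim_symm h3) V.t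
      rwa [mul_assoc _ V.t V.t, V.t_sq, mul_one] at this
    · simp at h
  · next a b i s _ hf =>
    simp only [and_iff] at h
    obtain ⟨⟨ha, hb⟩, h⟩ := h
    split at h
    · next i1 s1 i2 s2 hfa hfb =>
      simp only [and_iff, beq_iff'] at h
      obtain ⟨⟨rfl, rfl⟩, rfl⟩ := h
      have hva := IH a (Nat.blt_eq.mp ha)
      have hvb := IH b (Nat.blt_eq.mp hb)
      rw [hfa] at hva; rw [hfb] at hvb
      rw [hf]
      refine ⟨hva.1.mul hvb.1, ?_⟩
      rw [V.val_mul hva.1 hvb.1, ← mul_assoc]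
      exact V.sim_trans (V.sim_mul hva.2 _) hvb.2
    · simp at h
  · next st hd gd i hh j g _ hf =>
    simp only [and_iff, beq_iff', Nat.blt_eq] at h
    obtain ⟨⟨⟨e1, e2⟩, hlt⟩, h⟩ := h
    split at h
    · next i' h' j' g' r hfe hr =>
      simp only [and_iff, beq_iff'] at h
      obtain ⟨⟨⟨rfl, rfl⟩, rfl⟩, rfl⟩ := h
      have hv := IH _ hlt
      rw [hfe] at hv
      obtain ⟨-, -, h3⟩ := hv
      have hH : IsEl hh := e1 ▸ isEl_ev (isEl_c hE) _
      have hG : IsEl g := e2 ▸ isEl_ev (isEl_c hE) _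
      obtain ⟨hs, hss⟩ := sEv_spec V IH i' _ _ hr
      obtain ⟨hk, hkt⟩ := kev_spec V hE st.k
      rw [hf]
      refine ⟨hH, hG, V.sim_cancel (V.val (ev D.k st.k)) ?_⟩
      rw [V.val_mul (hs.mul hH) hk, V.val_mul hs hH, V.val_mul hG hk] at h3
      rw [mul_assoc _ V.t, ← hkt.eq, ← mul_assoc, mul_assoc (V.w D j') _ _]
      refine V.sim_trans (V.sim_mul (V.sim_mul (V.sim_mul (V.sim_symm hss) _) _) _) ?_
      simpa [mul_assoc] using h3
    · simp at h
  · next ri start hd pre suf gd i hh j g _ hf =>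
    simp only [and_iff, beq_iff'] at h
    obtain ⟨⟨e1, h1⟩, h2⟩ := h
    rw [isAt_iff] at h1
    obtain ⟨hw, hend, hrel⟩ := relCode_spec V ri
    obtain ⟨hH, hs1⟩ := walk_spec V hE IH _ _ _ _ _ _ (isEl_ev (isEl_c hE) hd)
      (fun w hw' => hw w (List.mem_of_mem_take hw')) h1
    split at h2
    · next w ws hdrop =>
      rw [isAt_iff] at h2
      have hG : IsEl g := e1 ▸ isEl_ev (isEl_c hE) _
      have hw1 : IsEl w := hw w (List.mem_of_mem_drop (hdrop ▸ List.mem_cons_self))
      obtain ⟨-, hs2⟩ := walk_spec V hE IH _ _ _ _ _ _ (hG.mul hw1)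
        (fun v hv => hw v (List.mem_of_mem_drop (hdrop ▸ List.mem_cons_of_mem _ hv))) h2
      rw [hf]
      refine ⟨hH, hG, V.sim_cancel (V.val w * (ws.map fun w => V.t * V.val w).prod) ?_⟩
      rw [V.val_mul hG hw1, V.val_mul (isEl_ev (isEl_c hE) hd) hend, ← hrel,
        ← List.take_append_drop pre.length (relCode ri).1, List.map_append, List.prod_append, hdrop,
        List.map_cons, List.prod_cons] at hs2
      refine V.sim_trans (V.sim_mul (V.sim_mul (V.sim_symm hs1) _) _) ?_
      refine V.sim_trans ?_ (V.sim_symm (by simpa [mul_assoc] using hs2))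
      simp only [mul_assoc, List.map_take]; exact V.sim_refl _
    · simp at h2
  · next ri start hd st ed i e _ hf =>
    simp only [and_iff, beq_iff'] at h
    obtain ⟨⟨rfl, e1⟩, h1⟩ := h
    rw [isAt_iff] at h1
    obtain ⟨hw, hend, hrel⟩ := relCode_spec V ri
    have hHd := isEl_ev (isEl_c hE) hd
    obtain ⟨-, hs1⟩ := walk_spec V hE IH _ _ _ _ _ _ hHd hw h1
    have hEe : IsEl e := e1 ▸ isEl_ev (isEl_c hE) _
    rw [hf]
    refine ⟨hEe, V.sim_cancel (V.val (mm (ev D.c hd) (relCode ri).2)) ?_⟩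
    rw [hrel, V.val_mul hEe (hHd.mul hend), ← mul_assoc] at hs1
    refine V.sim_trans (V.sim_symm hs1) ?_
    rw [V.val_mul hHd hend, ← mul_assoc]
    exact V.sim_refl _
  · next a b ed i e _ hf =>
    simp only [and_iff, beq_iff'] at h
    obtain ⟨e1, h⟩ := h
    split at h
    · next i1 h1 j1 g1 i2 h2 j2 g2 hda hdb =>
      simp only [and_iff, beq_iff'] at h
      obtain ⟨⟨⟨⟨rfl, rfl⟩, rfl⟩, rfl⟩, he⟩ := h
      obtain ⟨-, hg1, hs1⟩ := stepData_spec V hE IH hda
      obtain ⟨-, hg2, hs2⟩ := stepData_spec V hE IH hdb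
      have hEe : IsEl e := e1 ▸ isEl_ev (isEl_c hE) _
      rw [hf]
      refine ⟨hEe, V.sim_cancel (V.val g2) ?_⟩
      rw [mul_assoc, ← V.val_mul hEe hg2, he]
      exact V.sim_trans (V.sim_symm hs1) hs2
    · simp at h
  · simp at h

/-- All checked facts hold. -/
theorem all_facts (hE : ElsOK D) (h : ∀ n, n < D.n → okFact D n = true) :
    ∀ n, n < D.n → Val V D (D.fact.get n) := by
  intro n
  induction n using Nat.strong_induction_on with
  | _ n ih =>
    intro hn
    exact okFact_spec V hE n (fun m hm => ih m hm (hm.trans hn)) (h n hn)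

theorem of_range {p : ℕ → Bool} {N : ℕ} (a k : ℕ)
    (h : ((List.range k).all fun i => p (a + i)) = true)
    (hrest : ∀ n, n < a → p n = true) (hN : N ≤ a + k) : ∀ n, n < N → p n = true := fun n hn => by
  rcases Nat.lt_or_ge n a with h' | h'
  · exact hrest n h'
  · have := List.all_eq_true.1 h (n - a) (List.mem_range.2 (by omega))
    rwa [Nat.add_sub_cancel' h'] at this

end Cfsg.Agent.Lib.J4Dce59
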